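import Cfsg.Agent.Lib.KnownB.G2Square.Levi

/-!
# The big cell of the parabolic and generation

An element with nonzero `(3,3)` entry is `v · iota Y · u`; every element lies in the subgroup generated
by the twelve root subgroups.
-/

set_option autoImplicit false
set_option maxHeartbeats 1000000

namespace CfsgLib.KnownB.G2Square

open Matrix Cfsg.Lie CfsgLib.NormalCover

variable {F : Type*} [Field F] [Finite F]

local notation "V8" => Fin 8 → F

theorem exists_low {w : V8} (ht : zTr w = 0) (hn : zNm w = 0) (h3 : w 3 = 1) :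
    ∃ v : G2G F, v ∈ radOp F ∧ v ∈ moved F ∧ act v w = eTop := by
  obtain ⟨w', hw'⟩ : ∃ w', w' = act (gB ![0, 0, -w 0]) w := ⟨_, rfl⟩
  have c0 : w' 0 = 0 := by rw [hw', act_gB]; simp [moveB, h3]
  have c7 : w' 7 = 0 := by
    have := act_tr (gB ![0, 0, -w 0]) w
    rw [← hw', ht] at this
    simpa [zTr, c0] using this
  have c3 : w' 3 = 1 := by rw [hw', act_gB]; simp [moveB, h3]
  obtain ⟨w'', hw''⟩ : ∃ w'', w'' = act (gS (upSL (-w' 1) (-w' 2))) w' := ⟨_, rfl⟩
  have d0 : w'' 0 = 0 := by rw [hw'', act_gS]; simp [moveS, upSL, c0]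
  have d7 : w'' 7 = 0 := by rw [hw'', act_gS]; simp [moveS, upSL, c7]
  have d1 : w'' 1 = 0 := by rw [hw'', act_gS]; simp [moveS, upSL, c3]
  have d2 : w'' 2 = 0 := by rw [hw'', act_gS]; simp [moveS, upSL, c3]
  have d3 : w'' 3 = 1 := by rw [hw'', act_gS]; simp [moveS, upSL, c3]
  have d6 : w'' 6 = 0 := by
    have e : zNm w'' = 0 := by rw [hw'', act_nm, hw', act_nm, hn]
    simpa [zNm, d0, d1, d2, d3, d7] using e
  refine ⟨gA ![-w'' 5, w'' 4, 0] * (gS (upSL (-w' 1) (-w' 2)) * gB ![0, 0, -w 0]),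
    mul_mem (gA_radOp_mem _ _) (mul_mem (gS_up_mem _ _) (gB_radOp_mem _)),
    mul_mem (gA_mem_plane _ _) (mul_mem (gS_mem _) (gB_mem_two _)), ?_⟩
  rw [act_mul, act_mul, ← hw', ← hw'', act_gA]
  funext i
  fin_cases i <;> simp [moveA, eTop, d0, d1, d2, d3, d6, d7] <;> first | ring1 | (ring_nf; simp)

theorem exists_up {w : V8} (ht : zTr w = 0) (hn : zNm w = 0) (h6 : w 6 = 1) :
    ∃ u : G2G F, u ∈ rad F ∧ u ∈ moved F ∧ act u w = eBot := by
  obtain ⟨w', hw'⟩ : ∃ w', w' = act (gA ![0, 0, -w 0]) w := ⟨_, rfl⟩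
  have c0 : w' 0 = 0 := by rw [hw', act_gA]; simp [moveA, h6]
  have c7 : w' 7 = 0 := by
    have := act_tr (gA ![0, 0, -w 0]) w
    rw [← hw', ht] at this
    simpa [zTr, c0] using this
  have c6 : w' 6 = 1 := by rw [hw', act_gA]; simp [moveA, h6]
  obtain ⟨w'', hw''⟩ : ∃ w'', w'' = act (gS (lowSL (w' 4) (w' 5))) w' := ⟨_, rfl⟩
  have d0 : w'' 0 = 0 := by rw [hw'', act_gS]; simp [moveS, lowSL, c0]
  have d7 : w'' 7 = 0 := by rw [hw'', act_gS]; simp [moveS, lowSL, c7]
  have d4 : w'' 4 = 0 := by rw [hw'', act_gS]; simp [moveS, lowSL, c6]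
  have d5 : w'' 5 = 0 := by rw [hw'', act_gS]; simp [moveS, lowSL, c6]
  have d6 : w'' 6 = 1 := by rw [hw'', act_gS]; simp [moveS, lowSL, c6]
  have d3 : w'' 3 = 0 := by
    have e : zNm w'' = 0 := by rw [hw'', act_nm, hw', act_nm, hn]
    simpa [zNm, d0, d4, d5, d6, d7] using e
  refine ⟨gB ![-w'' 2, w'' 1, 0] * (gS (lowSL (w' 4) (w' 5)) * gA ![0, 0, -w 0]),
    mul_mem (gB_rad_mem _ _) (mul_mem (gS_low_mem _ _) (gA_rad_mem _)),
    mul_mem (gB_mem_plane _ _) (mul_mem (gS_mem _) (gA_mem_two _)), ?_⟩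
  rw [act_mul, act_mul, ← hw', ← hw'', act_gB]
  funext i
  fin_cases i <;> simp [moveB, eBot, d0, d3, d4, d5, d6, d7] <;> first | ring1 | (ring_nf; simp)

/-- The decomposition of an element of the big cell. -/
theorem exists_dec (g : G2G F) (hc : mat g 3 3 ≠ 0) :
    ∃ (v u : G2G F) (Y : Matrix (Fin 2) (Fin 2) F) (hY : Y.det ≠ 0),
      v ∈ radOp F ∧ u ∈ rad F ∧ g = v * iota Y hY * u ∧ Y.det = (mat g 3 3)⁻¹ ∧ g ∈ moved F := by
  obtain ⟨c, hcdef⟩ : ∃ c, c = mat g 3 3 := ⟨_, rfl⟩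
  rw [← hcdef] at hc
  have e3 : act g eTop 3 = c := by rw [eTop_single, act_single, hcdef]
  obtain ⟨v, hv, hvm, hve⟩ := exists_low (w := c⁻¹ • act g eTop)
    (by
      have h := act_tr g eTop
      simp [zTr, eTop] at h ⊢
      linear_combination c⁻¹ * h)
    (by
      have h := act_nm g eTop
      simp [zNm, eTop] at h ⊢
      linear_combination c⁻¹ * c⁻¹ * h)
    (by simp [e3, hc])
  have hse : act (v * g) eTop = c • eTop := by
    rw [act_mul, show act g eTop = c • (c⁻¹ • act g eTop) by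
      rw [smul_smul, mul_inv_cancel₀ hc, one_smul], act_smul, hve]
  obtain ⟨z, hz⟩ : ∃ z, z = act (v * g) eBot := ⟨_, rfl⟩
  have hz6 : c * z 6 = 1 := by
    have := act_pol (v * g) eTop eBot
    rw [hse, ← hz] at this
    simpa [zPol, eTop, eBot] using this
  obtain ⟨u, hu, hum, hue⟩ := exists_up (w := c • z)
    (by
      have h := act_tr (v * g) eBot
      rw [← hz] at h
      simp [zTr, eBot] at h ⊢
      linear_combination c * h)
    (by
      have h := act_nm (v * g) eBot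
      rw [← hz] at h
      simp [zNm, eBot] at h ⊢
      linear_combination c * c * h)
    (by simpa using hz6)
  obtain ⟨h, hh⟩ : ∃ h, h = u * (v * g) := ⟨_, rfl⟩
  have he : act h eTop = c • eTop := by rw [hh, act_mul, hse, act_smul, act_rad_eTop hu]
  have hf : act h eBot = c⁻¹ • eBot := by
    rw [hh, act_mul, ← hz, ← hue, act_smul, smul_smul, inv_mul_cancel₀ hc, one_smul]
  have hee : zornMul (eTop : V8) eBot = eZero := by
    funext i; fin_cases i <;> simp [zornMul, dot3, cross3, eTop, eBot, eZero]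
  have h0 : act h eZero = eZero := by
    rw [← hee, act_zorn, he, hf]
    funext i; fin_cases i <;> simp [zornMul, dot3, cross3, eTop, eBot, hc]
  obtain ⟨hdS, hS⟩ := stab_eZero h.2 h0
  generalize blockA (h : GL (Fin 8) F) = S at hdS hS
  have q := fun i => congrFun ((hS eTop).symm.trans he) i
  have r := fun i => congrFun ((hS eBot).symm.trans hf) i
  have q1 := q 1; have q2 := q 2; have q3 := q 3
  have r4 := r 4; have r5 := r 5; have r6 := r 6
  simp [moveS, eTop] at q1 q2 q3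
  simp [moveS, eBot, q1, q2] at r4 r5 r6
  have hdet2 : S 0 0 * S 1 1 - S 0 1 * S 1 0 = c⁻¹ := r6
  have hne : S 0 0 * S 1 1 - S 0 1 * S 1 0 ≠ 0 := hdet2 ▸ inv_ne_zero hc
  have s20 : S 2 0 = 0 := (mul_eq_zero.1
    (show (S 0 0 * S 1 1 - S 0 1 * S 1 0) * S 2 0 = 0 by
      linear_combination (-S 0 0) * r4 - S 1 0 * r5)).resolve_left hne
  have s21 : S 2 1 = 0 := (mul_eq_zero.1
    (show (S 0 0 * S 1 1 - S 0 1 * S 1 0) * S 2 1 = 0 by
      linear_combination (-S 0 1) * r4 - S 1 1 * r5)).resolve_left hne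
  have hY : (!![S 0 0, S 0 1; S 1 0, S 1 1] : Matrix (Fin 2) (Fin 2) F).det ≠ 0 := by
    rwa [det_fin_two_of]
  have hhi : h = iota !![S 0 0, S 0 1; S 1 0, S 1 1] hY := by
    refine ext_act fun x => ?_
    rw [act_iota, show act h x = moveS S x from hS x]
    have hcc : (!![S 0 0, S 0 1; S 1 0, S 1 1] : Matrix (Fin 2) (Fin 2) F).det = c⁻¹ := by
      rw [det_fin_two_of, hdet2]
    funext i
    fin_cases i <;> simp [moveS, q1, q2, q3, s20, s21, hcc] <;>
      first | ring1 | exact Or.inl hdet2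
  have hgm : g ∈ moved F := by
    have : g = v⁻¹ * u⁻¹ * h := by rw [hh]; group
    rw [this, hhi, iota]
    exact mul_mem (mul_mem (inv_mem hvm) (inv_mem hum)) (gS_mem _)
  refine ⟨v⁻¹, h⁻¹ * u⁻¹ * h, _, hY, inv_mem hv, ?_, ?_, ?_, hgm⟩
  · have := iota_conj_rad (!![S 0 0, S 0 1; S 1 0, S 1 1] : Matrix (Fin 2) (Fin 2) F)⁻¹
      (by simpa [det_nonsing_inv] using hY) (inv_mem hu)
    rw [← iota_inv _ hY, inv_inv, ← hhi] at this
    exact this
  · rw [← hhi, hh]; group
  · rw [det_fin_two_of, hdet2, hcdef]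

/-- The upper left block of a decomposed element. -/
theorem block_of_dec {g v u : G2G F} {Y : Matrix (Fin 2) (Fin 2) F} {hY : Y.det ≠ 0}
    (hg : g = v * iota Y hY * u) (hv : v ∈ radOp F) (hu : u ∈ rad F) (hd : Y.det = 1) :
    (Y 1 1 = mat g 4 4 - mat g 4 3 * mat g 3 4 ∧ Y 0 0 = mat g 5 5 - mat g 5 3 * mat g 3 5) ∧
      (-Y 1 0 = mat g 4 5 - mat g 4 3 * mat g 3 5 ∧ -Y 0 1 = mat g 5 4 - mat g 5 3 * mat g 3 4) := by
  have he : ∀ i j, mat g i j = act v (act (iota Y hY) (fun k => mat u k j)) i := fun i j => by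
    rw [← act_single, hg, act_mul, act_mul]
    exact congrArg (fun z => act v (act (iota Y hY) z) i) (funext fun k => act_single u k j)
  simp only [he, act_iota, hd]
  simp [act, Matrix.mulVec, dotProduct, Fin.sum_univ_eight]
  simp [hu 0 4 (by decide),
    hu 1 4 (by decide),
    hu 2 4 (by decide),
    hu 4 4 (by decide),
    hu 5 4 (by decide),
    hu 6 4 (by decide),
    hu 7 4 (by decide),
    hu 0 5 (by decide),
    hu 1 5 (by decide),
    hu 2 5 (by decide),
    hu 4 5 (by decide),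
    hu 5 5 (by decide),
    hu 6 5 (by decide),
    hu 7 5 (by decide),
    hu 0 3 (by decide),
    hu 1 3 (by decide),
    hu 2 3 (by decide),
    hu 3 3 (by decide),
    hu 4 3 (by decide),
    hu 5 3 (by decide),
    hu 6 3 (by decide),
    hu 7 3 (by decide),
    hv 3 0 (by decide),
    hv 3 1 (by decide),
    hv 3 2 (by decide),
    hv 3 3 (by decide),
    hv 3 4 (by decide),
    hv 3 5 (by decide),
    hv 3 6 (by decide),
    hv 3 7 (by decide),
    hv 4 0 (by decide),
    hv 4 1 (by decide),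
    hv 4 2 (by decide),
    hv 4 4 (by decide),
    hv 4 5 (by decide),
    hv 4 6 (by decide),
    hv 4 7 (by decide),
    hv 5 0 (by decide),
    hv 5 1 (by decide),
    hv 5 2 (by decide),
    hv 5 4 (by decide),
    hv 5 5 (by decide),
    hv 5 6 (by decide),
    hv 5 7 (by decide)]

/-- Moving the coordinate of `a₃` by the radical. -/
theorem exists_coord {w : V8} (ht : zTr w = 0) (hn : zNm w = 0) (hw : ∀ z : F, w ≠ z • eTop) (c : F) :
    ∃ u : G2G F, u ∈ rad F ∧ u ∈ moved F ∧ act u w 3 = c := by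
  have case1 : ∀ w : V8, (w 1 ≠ 0 ∨ w 2 ≠ 0) → ∃ u : G2G F, u ∈ rad F ∧ u ∈ moved F ∧ act u w 3 = c := by
    intro w h
    have key : ∀ r s : F, r * w 1 + s * w 2 = c - w 3 →
        ∃ u : G2G F, u ∈ rad F ∧ u ∈ moved F ∧ act u w 3 = c := fun r s e =>
      ⟨gS (lowSL r s), gS_low_mem r s, gS_mem _, by
        rw [act_gS]; simp [moveS, lowSL]; linear_combination e⟩
    rcases h with h | h
    · exact key ((c - w 3) / w 1) 0 (by field_simp; ring)
    · exact key 0 ((c - w 3) / w 2) (by field_simp; ring)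
  by_cases ha : w 1 ≠ 0 ∨ w 2 ≠ 0
  · exact case1 w ha
  push Not at ha
  by_cases h6 : w 6 = 0
  swap
  · obtain ⟨u, hu, hum, he⟩ := case1 (act (gB ![1, 0, 0]) w) (Or.inr (by
      rw [act_gB]; simp [moveB, ha.2, h6]))
    exact ⟨u * gB ![1, 0, 0], mul_mem hu (gB_rad_mem _ _), mul_mem hum (gB_mem_plane _ _),
      by rw [act_mul]; exact he⟩
  have h0 : w 0 = 0 := by
    simp [zTr] at ht
    simp [zNm, ha.1, ha.2, h6] at hn
    rcases hn with e | e
    · exact e
    · linear_combination ht - e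
  have h7 : w 7 = 0 := by simp [zTr, h0] at ht; exact ht
  by_cases hb : w 4 ≠ 0 ∨ w 5 ≠ 0
  · have key : ∀ p q : F, p * w 5 - q * w 4 = w 3 - c →
        ∃ u : G2G F, u ∈ rad F ∧ u ∈ moved F ∧ act u w 3 = c := fun p q e =>
      ⟨gB ![p, q, 0], gB_rad_mem p q, gB_mem_plane p q, by
        rw [act_gB]; simp [moveB]; linear_combination -e⟩
    rcases hb with h | h
    · exact key 0 (-((w 3 - c) / w 4)) (by field_simp; ring)
    · exact key ((w 3 - c) / w 5) 0 (by field_simp; ring)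
  push Not at hb
  exact absurd (funext fun i => by fin_cases i <;> simp [eTop, h0, h7, ha.1, ha.2, h6, hb.1, hb.2])
    (hw (w 3))

/-- The root subgroups generate. -/
theorem mem_moved (g : G2G F) : g ∈ moved F := by
  have key : ∀ g : G2G F, act g eTop 3 ≠ 0 → g ∈ moved F := fun g h => by
    obtain ⟨v, u, Y, hY, -, -, -, -, hm⟩ := exists_dec g (by rwa [eTop_single, act_single] at h)
    exact hm
  by_cases h : act g eTop 3 = 0
  swap
  · exact key g h
  have hw : ∀ z : F, act g eTop ≠ z • eTop := by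
    intro z e
    rw [e] at h
    simp [eTop] at h
    subst h
    rw [zero_smul, ← act_zero g] at e
    simpa [eTop] using congrFun (act_injective g e) 3
  obtain ⟨u, -, hum, hu1⟩ := exists_coord
    (by rw [act_tr]; simp [zTr, eTop]) (by rw [act_nm]; simp [zNm, eTop]) hw 1
  have := key (u * g) (by rw [act_mul, hu1]; exact one_ne_zero)
  simpa using mul_mem (inv_mem hum) this

end CfsgLib.KnownB.G2Square
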