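import Cfsg.Agent.Lib.KnownB.G2Square.BigCell
import Cfsg.Agent.Lib.KnownC.G2Oct.Bridge

/-!
# Zorn's automorphism group maps onto the adjoint group of type `G₂`
-/

set_option autoImplicit false
set_option maxRecDepth 100000
set_option maxHeartbeats 1000000

namespace CfsgLib.KnownB.G2Square

open Matrix Cfsg.Lie CfsgLib.Chev CfsgLib.NormalCover CfsgLib.KnownC.G2Oct

variable {F : Type*} [Field F]

/-- The adjoint matrix of an automorphism, when it lies in the Chevalley group. -/
def Adj (g : G2G F) (X : ↥(chevG2.group F)) : Prop :=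
  ∀ v, mat g * Der v = Der (((X : GL chevG2.Idx F) : Matrix chevG2.Idx chevG2.Idx F) *ᵥ v) * mat g

theorem Adj.one : Adj (1 : G2G F) 1 := fun v => by
  show (1 : Matrix (Fin 8) (Fin 8) F) * Der v = Der ((1 : Matrix _ _ F) *ᵥ v) * 1
  simp

theorem Adj.mul {g h : G2G F} {X Y : ↥(chevG2.group F)} (hg : Adj g X) (hh : Adj h Y) :
    Adj (g * h) (X * Y) := fun v => by
  rw [mat_mul, mul_assoc, hh, ← mul_assoc, hg, mul_assoc, mulVec_mulVec]
  rfl

theorem Adj.inv {g : G2G F} {X : ↥(chevG2.group F)} (hg : Adj g X) : Adj g⁻¹ X⁻¹ := fun v => by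
  have h := hg ((((X⁻¹ : ↥(chevG2.group F)) : GL chevG2.Idx F) : Matrix chevG2.Idx chevG2.Idx F) *ᵥ v)
  rw [mulVec_mulVec, ← Units.val_mul, ← Subgroup.coe_mul, mul_inv_cancel, Subgroup.coe_one,
    Units.val_one, one_mulVec] at h
  have i1 : mat g * mat g⁻¹ = 1 := by rw [← mat_mul, mul_inv_cancel]; rfl
  have i2 : mat g⁻¹ * mat g = 1 := by rw [← mat_mul, inv_mul_cancel]; rfl
  calc mat g⁻¹ * Der v = mat g⁻¹ * (Der v * mat g) * mat g⁻¹ := by
        rw [mul_assoc, mul_assoc, i1, mul_one]
    _ = _ := by rw [← h, ← mul_assoc, i2, one_mul]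

theorem Adj.unique {g : G2G F} {X Y : ↥(chevG2.group F)} (hX : Adj g X) (hY : Adj g Y) : X = Y := by
  refine Subtype.ext (Units.ext (Matrix.ext_iff_mulVec.2 fun v => Der_injective ?_))
  have i1 : mat g * mat g⁻¹ = 1 := by rw [← mat_mul, mul_inv_cancel]; rfl
  have h := congrArg (· * mat g⁻¹) ((hX v).symm.trans (hY v))
  simpa [mul_assoc, i1] using h

/-- A root element and the automorphism of Zorn's algebra with the tabulated matrix. -/
theorem adj_root {r : ℕ} (hr : r < chevG2.nroots) (t : F) (g : G2G F)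
    (hg : ∀ x i, act g x i = (M t (yTab r) *ᵥ x) i) :
    Adj g ⟨goodG2.xG r t, goodG2.xG_mem_group hr t⟩ := by
  have hM : mat g = M t (yTab r) := Matrix.ext_iff_mulVec.2 fun x => funext (hg x)
  intro v
  rw [hM, Der_mulVec, Der, Finset.mul_sum, Finset.sum_mul]
  refine Finset.sum_congr rfl fun b _ => ?_
  rw [Matrix.mul_smul, Matrix.smul_mul, root_rel hr, goodG2.coe_xG]

theorem coe_transvection {i j : Fin 3} (hij : i ≠ j) (t : F) :
    ((Matrix.SpecialLinearGroup.transvection hij t : Matrix.SpecialLinearGroup (Fin 3) F) :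
      Matrix (Fin 3) (Fin 3) F) = 1 + single i j t := by
  simp [Matrix.SpecialLinearGroup.transvection_coe]

/-- The generators of the moved subgroup have adjoint matrices. -/
theorem adj_gA (k : Fin 3) (t : F) : ∃ X, Adj (gA (Pi.single k t)) X := by
  fin_cases k
  · exact ⟨_, adj_root (r := 8) (by decide) t _ fun x i => by
      rw [act_gA]; fin_cases i <;> simp [M_mulVec, yTab, moveA] <;> ring⟩
  · exact ⟨_, adj_root (r := 7) (by decide) t _ fun x i => by
      rw [act_gA]; fin_cases i <;> simp [M_mulVec, yTab, moveA] <;> ring⟩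
  · exact ⟨_, adj_root (r := 2) (by decide) t _ fun x i => by
      rw [act_gA]; fin_cases i <;> simp [M_mulVec, yTab, moveA] <;> ring⟩

theorem adj_gB (k : Fin 3) (t : F) : ∃ X, Adj (gB (Pi.single k t)) X := by
  fin_cases k
  · exact ⟨_, adj_root (r := 3) (by decide) (-t) _ fun x i => by
      rw [act_gB]; fin_cases i <;> simp [M_mulVec, yTab, moveB] <;> ring⟩
  · exact ⟨_, adj_root (r := 4) (by decide) (-t) _ fun x i => by
      rw [act_gB]; fin_cases i <;> simp [M_mulVec, yTab, moveB] <;> ring⟩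
  · exact ⟨_, adj_root (r := 9) (by decide) (-t) _ fun x i => by
      rw [act_gB]; fin_cases i <;> simp [M_mulVec, yTab, moveB] <;> ring⟩

theorem adj_gS {i j : Fin 3} (hij : i ≠ j) (t : F) :
    ∃ X, Adj (gS (Matrix.SpecialLinearGroup.transvection hij t)) X := by
  have key : ∀ r : ℕ, r < chevG2.nroots →
      (∀ x l, moveS (1 + single i j t) x l = (M t (yTab r) *ᵥ x) l) →
      ∃ X, Adj (gS (Matrix.SpecialLinearGroup.transvection hij t)) X := fun r hr h =>
    ⟨_, adj_root hr t _ fun x l => by rw [act_gS, coe_transvection]; exact h x l⟩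
  fin_cases i <;> fin_cases j
  · exact absurd rfl hij
  · exact key 6 (by decide) fun x l => by
      fin_cases l <;> simp [M_mulVec, yTab, moveS, Matrix.single_apply, Matrix.one_apply] <;> ring
  · exact key 11 (by decide) fun x l => by
      fin_cases l <;> simp [M_mulVec, yTab, moveS, Matrix.single_apply, Matrix.one_apply] <;> ring
  · exact key 5 (by decide) fun x l => by
      fin_cases l <;> simp [M_mulVec, yTab, moveS, Matrix.single_apply, Matrix.one_apply] <;> ring
  · exact absurd rfl hij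
  · exact key 10 (by decide) fun x l => by
      fin_cases l <;> simp [M_mulVec, yTab, moveS, Matrix.single_apply, Matrix.one_apply] <;> ring
  · exact key 0 (by decide) fun x l => by
      fin_cases l <;> simp [M_mulVec, yTab, moveS, Matrix.single_apply, Matrix.one_apply] <;> ring
  · exact key 1 (by decide) fun x l => by
      fin_cases l <;> simp [M_mulVec, yTab, moveS, Matrix.single_apply, Matrix.one_apply] <;> ring
  · exact absurd rfl hij

theorem exists_adj [Finite F] (g : G2G F) : ∃ X, Adj g X := by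
  refine Subgroup.closure_induction (p := fun g _ => ∃ X, Adj g X) ?_ ⟨1, Adj.one⟩
    (fun a b _ _ => fun ⟨X, hX⟩ ⟨Y, hY⟩ => ⟨X * Y, hX.mul hY⟩)
    (fun a _ => fun ⟨X, hX⟩ => ⟨X⁻¹, hX.inv⟩) (mem_moved g)
  rintro a (⟨k, t, rfl | rfl⟩ | ⟨i, j, hij, t, rfl⟩)
  · exact adj_gA k t
  · exact adj_gB k t
  · exact adj_gS hij t

/-- The map onto the adjoint group. -/
noncomputable def adjHom [Finite F] : G2G F →* ↥(chevG2.group F) :=
  MonoidHom.mk' (fun g => (exists_adj g).choose) fun a b =>
    (exists_adj (a * b)).choose_spec.unique ((exists_adj a).choose_spec.mul (exists_adj b).choose_spec)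

theorem adjHom_surjective [Finite F] : Function.Surjective (adjHom (F := F)) := by
  have h : ∀ X ∈ chevG2.group F, X ∈ (adjHom (F := F)).range.map (chevG2.group F).subtype := by
    intro X hX
    refine (show chevG2.group F ≤ (adjHom (F := F)).range.map (chevG2.group F).subtype from
      goodG2.group_le fun r hr t => ?_) hX
    obtain ⟨g, hg, hgM⟩ := root_g2 ⟨r, hr⟩ t
    refine ⟨⟨goodG2.xG r t, goodG2.xG_mem_group hr t⟩, ⟨⟨g, hg⟩, ?_⟩, rfl⟩
    exact (exists_adj _).choose_spec.unique (adj_root hr t _ fun x i => by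
      show ((g : Matrix (Fin 8) (Fin 8) F) *ᵥ x) i = _
      rw [hgM])
  intro X
  obtain ⟨Y, ⟨g, rfl⟩, hY⟩ := h X.1 X.2
  exact ⟨g, Subtype.ext hY⟩

end CfsgLib.KnownB.G2Square
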