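import Cfsg.Agent.Lib.KnownB.G2Square.Frame
import Cfsg.Agent.Lib.KnownB.G2Square.Adjoint
import Cfsg.Agent.Lib.KnownB.PSpFourSquare.Main

/-!
# `G₂(q)`, `q ≥ 3`: a semisimple class whose square covers all nontrivial elements
-/

set_option autoImplicit false

namespace CfsgLib.KnownB.G2Square

open Matrix Cfsg.Lie CfsgLib.KnownB.PSpFourSquare

variable {F : Type*} [Field F]

theorem exists_fit_even [Fintype F] (h2 : (2 : F) = 0) (h4 : 4 ≤ Fintype.card F) :
    ∃ K : Params F, Fit K := by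
  classical
  haveI : CharP F 2 := CharTwo.of_one_ne_zero_of_two_eq_zero one_ne_zero h2
  obtain ⟨d, hd⟩ := Finset.exists_mem_notMem_of_card_lt_card (s := ({0, 1} : Finset F))
    (t := Finset.univ) (lt_of_le_of_lt Finset.card_le_two (by rw [Finset.card_univ]; omega))
  simp at hd
  obtain ⟨hd0, hd1⟩ := hd
  obtain ⟨τ, hτ⟩ := Finset.exists_mem_notMem_of_card_lt_card
    (s := ({0, d + 1, (d ^ 3 + 1) / d} : Finset F)) (t := Finset.univ)
    (lt_of_le_of_lt Finset.card_le_three (by rw [Finset.card_univ]; omega))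
  simp at hτ
  obtain ⟨hτ0, hτ1, hτ2⟩ := hτ
  have hsq : τ ^ 2 ≠ 4 * d := fun e => hτ0 (pow_eq_zero_iff two_ne_zero |>.1
    (by linear_combination e + 2 * d * h2))
  refine ⟨⟨d, τ, hd0, hsq, ?_⟩, hd1, hτ1, fun e => hτ2 (by
    rw [eq_div_iff hd0]; linear_combination e)⟩
  intro S hS h
  obtain ⟨h00, h01, h11⟩ := comp_mul_sym _ _ S hS h
  have hs : S 1 0 = S 0 1 := congrFun (congrFun hS 0) 1
  have hne : (d + τ + 1) ^ 2 ≠ 0 := pow_ne_zero 2 fun e => hτ1 (by
    linear_combination e - (d + 1) * h2)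
  have hc : S 1 1 = 0 := (mul_eq_zero.1 (show (d + τ + 1) ^ 2 * S 1 1 = 0 by
    linear_combination h00 + h11 +
      ((d * τ + d + τ + 1) * S 1 1 - τ * S 0 1) * h2)).resolve_left hne
  have ha : S 0 0 = 0 := by linear_combination -h00 + d ^ 2 * hc
  have hb : S 0 1 = 0 :=
    (mul_eq_zero.1 (show (d - 1) * S 0 1 = 0 by
      linear_combination -h01 - d * τ * hc - S 0 1 * h2)).resolve_left (sub_ne_zero.2 hd1)
  ext i j
  fin_cases i <;> fin_cases j <;> simp [hs, ha, hb, hc]

/-- Odd characteristic: every matrix of determinant one is good. -/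
theorem good_det_one [Fintype F] (h2 : (2 : F) ≠ 0) {K : Params F} (hδ : K.δ = -1) (hτ : K.τ ≠ 0)
    (X : Matrix (Fin 2) (Fin 2) F) (hX : X.det = 1) : K.Good X := by
  by_cases e : X = -1
  · refine K.good_of_sq (by rw [hX, hδ]; ring) (comp K.δ K.τ) ⟨det_comp _ _, trace_comp _ _⟩ ?_
    rw [e, Matrix.mul_neg, Matrix.mul_one, trace_neg, trace_comp, hδ, neg_one_mul]
  · exact K.good_odd h2 hδ hτ X hX e

/-- The order of `x` is prime to the characteristic. -/
theorem not_dvd_orderOf [Finite F] (K : Params F) (p : ℕ) [Fact p.Prime] [CharP F p] :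
    ¬ p ∣ orderOf (xEl K) := by
  intro hp
  have hx0 : orderOf (xEl K) ≠ 0 := (orderOf_pos _).ne'
  have hpow : ∀ (k : ℕ) (h : (comp K.δ K.τ ^ k).det ≠ 0), xEl K ^ k = iota (comp K.δ K.τ ^ k) h := by
    intro k
    induction k with
    | zero => intro h; rw [pow_zero, iota_congr (pow_zero _) h, iota_one]
    | succ k ih =>
      intro h
      rw [pow_succ, ih (by rw [det_pow]; exact pow_ne_zero k K.det_ne), xEl, iota_mul]
      exact iota_congr (pow_succ _ k).symm _
  have hdet : ∀ k : ℕ, (comp K.δ K.τ ^ k).det ≠ 0 := fun k => by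
    rw [det_pow]; exact pow_ne_zero k K.det_ne
  obtain ⟨k, hk⟩ : ∃ k, k = orderOf (xEl K) / p := ⟨_, rfl⟩
  have hkp : k * p = orderOf (xEl K) := hk ▸ Nat.div_mul_cancel hp
  obtain ⟨α, γ, hc⟩ := exists_comb K.δ K.τ k
  have h1 : comp K.δ K.τ ^ (k * p) = 1 := by
    have e := hpow (k * p) (hdet _)
    rw [hkp, pow_orderOf_eq_one] at e
    have c := fun (i j : Fin 8) => (congrArg (fun g => mat g i j) e).symm
    have e11 := c 1 1; have e12 := c 1 2; have e21 := c 2 1; have e22 := c 2 2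
    rw [← act_single, act_iota] at e11 e12 e21 e22
    rw [hkp]
    ext i j
    fin_cases i <;> fin_cases j <;> simp [mat] at e11 e12 e21 e22 ⊢ <;>
      first | exact e11 | exact e12 | exact e21 | exact e22
  have hN : (comp K.δ K.τ ^ k - 1) ^ p = 0 := by
    rw [sub_pow_char_of_commute p (Commute.one_right _), ← pow_mul, h1, one_pow, sub_self]
  have hN' : comp K.δ K.τ ^ k - 1 = !![γ - 1, -(α * K.δ); α, α * K.τ + γ - 1] := by
    rw [hc]
    ext i j
    fin_cases i <;> fin_cases j <;> simp [PSpFourSquare.comp] <;> ring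
  have htr : (comp K.δ K.τ ^ k - 1).trace = 0 :=
    (Matrix.isNilpotent_trace_of_isNilpotent ⟨p, hN⟩).eq_zero
  have hdet0 : (comp K.δ K.τ ^ k - 1).det = 0 := by
    refine pow_eq_zero_iff (Fact.out : p.Prime).ne_zero |>.1 ?_
    rw [← det_pow, hN, det_zero]
  rw [hN', trace_fin_two] at htr
  rw [hN', det_fin_two_of] at hdet0
  simp at htr
  have hα : α = 0 := by
    by_contra h
    apply K.hsq
    refine mul_left_cancel₀ (pow_ne_zero 2 h) ?_
    linear_combination (-4) * hdet0 + ((2 * (γ - 1) + α * K.τ)) * htr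
  subst hα
  have hγ : γ = 1 := sub_eq_zero.1 (mul_self_eq_zero.1 (by linear_combination hdet0))
  subst hγ
  rw [zero_smul, one_smul, zero_add] at hc
  have hk1 : xEl K ^ k = 1 := by rw [hpow k (hdet k), iota_congr hc, iota_one]
  have hkpos : 0 < k := hk ▸ Nat.div_pos (Nat.le_of_dvd (Nat.pos_of_ne_zero hx0) hp)
    (Fact.out : p.Prime).pos
  have := Nat.le_of_dvd hkpos (orderOf_dvd_of_pow_eq_one hk1)
  have h2 := (Fact.out : p.Prime).two_le
  nlinarith

/-- The class in Zorn's model. -/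
theorem exists_cover_model [Fintype F] (h3 : 3 ≤ Fintype.card F) :
    ∃ K : Params F, ∀ g : G2G F, g ≠ 1 → Cover (xEl K) g := by
  by_cases h2 : (2 : F) = 0
  · haveI : CharP F 2 := CharTwo.of_one_ne_zero_of_two_eq_zero one_ne_zero h2
    have h4 : 4 ≤ Fintype.card F := by
      have := FiniteField.even_card_iff_char_two.1 (ringChar.eq_iff.2 ‹CharP F 2›)
      omega
    obtain ⟨K, hK⟩ := exists_fit_even h2 h4
    refine ⟨K, fun g hg => ?_⟩
    obtain ⟨k, h33, hnice⟩ := exists_nice h2 K.hδ hK.one hg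
    obtain ⟨v, u, Y, hY, hv, hu, hgd, hdet, -⟩ :=
      exists_dec (k * g * k⁻¹) (by rw [h33]; exact one_ne_zero)
    rw [h33, inv_one] at hdet
    obtain ⟨⟨b11, b00⟩, b10, b01⟩ := block_of_dec hgd hv hu hdet
    refine cover_of_conj k ?_
    rw [hgd]
    refine cover_of_dec hK hY ?_ hv hu
    rw [← b11, ← b00, ← b10, ← b01] at hnice
    rcases hnice with ht | ⟨e10, e01, e⟩
    · exact K.good_even h2 Y (Or.inl hdet) (by rw [trace_fin_two]; rwa [add_comm] at ht)
    · rw [neg_eq_zero] at e10 e01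
      have h1 : Y 0 0 = 1 := by
        refine CharTwo.sq_injective (show (Y 0 0) ^ 2 = (1 : F) ^ 2 from ?_)
        rw [det_fin_two, e10, e01, e] at hdet
        linear_combination hdet
      have hY1 : Y = 1 := by
        ext i j
        fin_cases i <;> fin_cases j <;> simp [e10, e01, e, h1]
      rw [hY1]
      exact K.good_one
  · obtain ⟨K, hδ, hτ⟩ := exists_params_odd h2
    have hK : Fit K := ⟨fun e => h2 (by linear_combination hδ - e),
      fun e => hτ (by linear_combination e + hδ),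
      fun e => hτ (by rw [hδ] at e; linear_combination -e)⟩
    refine ⟨K, fun g hg => ?_⟩
    obtain ⟨k, h33⟩ := exists_conj_one hg
    obtain ⟨v, u, Y, hY, hv, hu, hgd, hdet, -⟩ :=
      exists_dec (k * g * k⁻¹) (by rw [h33]; exact one_ne_zero)
    rw [h33, inv_one] at hdet
    refine cover_of_conj k ?_
    rw [hgd]
    exact cover_of_dec hK hY (good_det_one h2 hδ hτ Y hdet) hv hu

/-- The class in the adjoint group. -/
theorem exists_cover_g2 [Fintype F] (p : ℕ) [Fact p.Prime] [CharP F p] (h3 : 3 ≤ Fintype.card F) :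
    ∃ x : ↥(chevG2.group F), ¬ p ∣ orderOf x ∧ ∀ g : ↥(chevG2.group F), g ≠ 1 →
      ∃ u v : ↥(chevG2.group F), g = (u * x * u⁻¹) * (v * x * v⁻¹) := by
  obtain ⟨K, hK⟩ := exists_cover_model (F := F) h3
  refine ⟨adjHom (xEl K), fun hp => not_dvd_orderOf K p (hp.trans (orderOf_map_dvd _ _)),
    fun g hg => ?_⟩
  obtain ⟨h, rfl⟩ := adjHom_surjective g
  obtain ⟨u, v, huv⟩ := hK h fun e => hg (by rw [e, map_one])
  exact ⟨adjHom u, adjHom v, by simp only [huv, map_mul, map_inv]⟩

end CfsgLib.KnownB.G2Square
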