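import Cfsg.Agent.Lib.KnownB.G2Square.BigCell

/-!
# Conjugating into the good part of the big cell

Every nontrivial element moves the line of `a₃` after conjugation; then the radical normalises the
`(3,3)` entry to one. In characteristic two three normal forms of the image of `a₃` are used.
-/

set_option autoImplicit false
set_option maxHeartbeats 1000000

namespace CfsgLib.KnownB.G2Square

open Matrix Cfsg.Lie CfsgLib.NormalCover CfsgLib.KnownB.PSpFourSquare

variable {F : Type*} [Field F]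

local notation "V8" => Fin 8 → F

/-- A cyclic permutation in `SL₃`. -/
def cycSL : Matrix.SpecialLinearGroup (Fin 3) F :=
  ⟨!![0, 0, 1; 1, 0, 0; 0, 1, 0], by simp [det_fin_three]⟩

/-- Every element fixing all points of the orbit of the line of `a₃` is trivial. -/
theorem exists_conj_moves {g : G2G F} (hg : g ≠ 1) :
    ∃ k : G2G F, ∀ z : F, act (k * g * k⁻¹) eTop ≠ z • eTop := by
  by_contra hall
  push Not at hall
  apply hg
  have heig : ∀ k : G2G F, ∃ z : F, act g (act k eTop) = z • act k eTop := fun k => by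
    obtain ⟨z, hz⟩ := hall k⁻¹
    refine ⟨z, ?_⟩
    rw [inv_inv, act_mul, act_mul] at hz
    have e := congrArg (act k) hz
    rwa [← act_mul, mul_inv_cancel, act_one, act_smul] at e
  obtain ⟨c, hc⟩ := heig 1
  rw [act_one] at hc
  obtain ⟨c1, hc1⟩ := heig (gS cycSL)
  obtain ⟨c2, hc2⟩ := heig (gS (cycSL * cycSL))
  obtain ⟨c13, hc13⟩ := heig (gS (upSL 1 0))
  obtain ⟨c23, hc23⟩ := heig (gS (upSL 0 1))
  obtain ⟨m, hm⟩ := heig (gA ![0, 0, 1] * gS cycSL)
  have e1 : act (gS cycSL) eTop = (Pi.single 1 1 : V8) := by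
    rw [act_gS]; funext i; fin_cases i <;> simp [moveS, cycSL, eTop]
  have e2 : act (gS (cycSL * cycSL)) eTop = (Pi.single 2 1 : V8) := by
    rw [map_mul, act_mul, e1, act_gS]; funext i; fin_cases i <;> simp [moveS, cycSL]
  have e13 : act (gS (upSL 1 0)) eTop = (Pi.single 1 1 + Pi.single 3 1 : V8) := by
    rw [act_gS]; funext i; fin_cases i <;> simp [moveS, upSL, eTop]
  have e23 : act (gS (upSL 0 1)) eTop = (Pi.single 2 1 + Pi.single 3 1 : V8) := by
    rw [act_gS]; funext i; fin_cases i <;> simp [moveS, upSL, eTop]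
  have em : act (gA ![0, 0, 1] * gS cycSL) eTop = (Pi.single 1 1 - Pi.single 5 1 : V8) := by
    rw [act_mul, e1, act_gA]; funext i; fin_cases i <;> simp [moveA]
  rw [e1] at hc1
  rw [e2] at hc2
  rw [eTop_single] at hc
  rw [e13, act_add, hc1, hc] at hc13
  rw [e23, act_add, hc2, hc] at hc23
  have a1 : c1 = c := by
    have h1 := congrFun hc13 1; have h3 := congrFun hc13 3
    simp at h1 h3
    rw [h1, h3]
  have a2 : c2 = c := by
    have h1 := congrFun hc23 2; have h3 := congrFun hc23 3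
    simp at h1 h3
    rw [h1, h3]
  rw [a1] at hc1
  rw [a2] at hc2
  have b : ∀ i j k : Fin 8, zornMul (Pi.single i 1 : V8) (Pi.single j 1) = Pi.single k 1 →
      act g (Pi.single i 1) = c • Pi.single i 1 → act g (Pi.single j 1) = c • Pi.single j 1 →
      act g (Pi.single k 1) = (c * c) • Pi.single k 1 := by
    intro i j k h hi hj
    rw [← h, act_zorn, hi, hj, ← zornBil_apply, ← zornBil_apply, map_smul, map_smul,
      LinearMap.smul_apply, smul_smul]
  have b4 := b 2 3 4 (by funext i; fin_cases i <;> simp [zornMul, dot3, cross3]) hc2 hc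
  have b5 := b 3 1 5 (by funext i; fin_cases i <;> simp [zornMul, dot3, cross3]) hc hc1
  have b6 := b 1 2 6 (by funext i; fin_cases i <;> simp [zornMul, dot3, cross3]) hc1 hc2
  have hcne : c ≠ 0 := by
    intro e
    rw [e, zero_smul, ← act_zero g] at hc
    simpa using congrFun (act_injective g hc) 3
  have hc1' : c = 1 := by
    rw [em, sub_eq_add_neg, act_add, ← neg_one_smul F (Pi.single 5 1 : V8), act_smul, hc1, b5] at hm
    have h1 := congrFun hm 1; have h5 := congrFun hm 5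
    simp at h1 h5
    exact mul_left_cancel₀ hcne (by rw [mul_one]; linear_combination h1.trans h5.symm |>.symm)
  rw [hc1'] at hc hc1 hc2 b4 b5 b6
  rw [one_smul] at hc hc1 hc2
  rw [one_mul, one_smul] at b4 b5 b6
  have h0 : act g (Pi.single 0 1 : V8) = Pi.single 0 1 := by
    rw [show (Pi.single 0 1 : V8) = zornMul (Pi.single 3 1) (Pi.single 6 1) by
      funext i; fin_cases i <;> simp [zornMul, dot3, cross3], act_zorn, hc, b6]
  have h7 : act g (Pi.single 7 1 : V8) = Pi.single 7 1 := by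
    rw [show (Pi.single 7 1 : V8) = zornMul (Pi.single 6 1) (Pi.single 3 1) by
      funext i; fin_cases i <;> simp [zornMul, dot3, cross3], act_zorn, hc, b6]
  refine Subtype.ext (Units.ext ?_)
  ext i j
  show mat g i j = (1 : Matrix (Fin 8) (Fin 8) F) i j
  rw [← act_single, Matrix.one_apply, ← Pi.single_apply]
  fin_cases j
  · exact congrFun h0 i
  · exact congrFun hc1 i
  · exact congrFun hc2 i
  · exact congrFun hc i
  · exact congrFun b4 i
  · exact congrFun b5 i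
  · exact congrFun b6 i
  · exact congrFun h7 i

variable [Finite F]

theorem act_conj_rad_eTop {u g : G2G F} (hu : u ∈ rad F) :
    act (u * g * u⁻¹) eTop = act u (act g eTop) := by
  rw [act_mul, act_mul, act_rad_eTop (inv_mem hu)]

/-- Some conjugate has `(3,3)` entry one. -/
theorem exists_conj_one {g : G2G F} (hg : g ≠ 1) : ∃ k : G2G F, mat (k * g * k⁻¹) 3 3 = 1 := by
  obtain ⟨k, hk⟩ := exists_conj_moves hg
  obtain ⟨u, hu, -, hu1⟩ := exists_coord
    (by rw [act_tr]; simp [zTr, eTop]) (by rw [act_nm]; simp [zNm, eTop]) hk 1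
  refine ⟨u * k, ?_⟩
  have e : u * k * g * (u * k)⁻¹ = u * (k * g * k⁻¹) * u⁻¹ := by group
  rw [e, ← act_single, ← eTop_single, act_conj_rad_eTop hu, hu1]

/-- The data wanted in characteristic two. -/
def Nice (h : G2G F) : Prop :=
  mat h 3 3 = 1 ∧
    ((mat h 4 4 - mat h 4 3 * mat h 3 4) + (mat h 5 5 - mat h 5 3 * mat h 3 5) ≠ 0 ∨
      (mat h 4 5 - mat h 4 3 * mat h 3 5 = 0 ∧ mat h 5 4 - mat h 5 3 * mat h 3 4 = 0 ∧
        mat h 4 4 - mat h 4 3 * mat h 3 4 = mat h 5 5 - mat h 5 3 * mat h 3 5))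

theorem act_inv_of_eq {k : G2G F} {x y : V8} (h : act k y = x) : act k⁻¹ x = y := by
  rw [← h, act_inv_act]

theorem mat_conj (k h : G2G F) (i j : Fin 8) {y : V8} (hy : act k y = Pi.single j 1) :
    mat (k * h * k⁻¹) i j = act k (act h y) i := by
  rw [← act_single, act_mul, act_mul, act_inv_of_eq hy]

theorem iota_fix {Y : Matrix (Fin 2) (Fin 2) F} (hY : Y.det ≠ 0) (h : Y.det = 1) :
    act (iota Y hY)⁻¹ (eTop : V8) = eTop := act_inv_of_eq (by
  rw [act_iota, h]; funext i; fin_cases i <;> simp [eTop])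

/-- The three normal forms in characteristic two. -/
theorem exists_normal (h2 : (2 : F) = 0) {g : G2G F} (hg : g ≠ 1) :
    ∃ k : G2G F, act (k * g * k⁻¹) eTop = eBot ∨ act (k * g * k⁻¹) eTop = Pi.single 1 1 ∨
      act (k * g * k⁻¹) eTop = Pi.single 4 1 := by
  haveI : CharP F 2 := CharTwo.of_one_ne_zero_of_two_eq_zero one_ne_zero h2
  obtain ⟨k, hk⟩ := exists_conj_moves hg
  obtain ⟨h, hh⟩ : ∃ h, h = k * g * k⁻¹ := ⟨_, rfl⟩
  rw [← hh] at hk
  -- absorb a further conjugator fixing `a₃`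
  have step : ∀ (l : G2G F) (t : V8), act l⁻¹ eTop = eTop → act l (act h eTop) = t →
      act (l * k * g * (l * k)⁻¹) eTop = t := by
    intro l t hl ht
    rw [show l * k * g * (l * k)⁻¹ = l * h * l⁻¹ by rw [hh]; group, act_mul, act_mul, hl, ht]
  obtain ⟨w, hw⟩ : ∃ w, w = act h eTop := ⟨_, rfl⟩
  have ht : zTr w = 0 := by rw [hw, act_tr]; simp [zTr, eTop]
  have hn : zNm w = 0 := by rw [hw, act_nm]; simp [zNm, eTop]
  by_cases h6 : w 6 = 0
  swap
  · obtain ⟨u, hu, -, hue⟩ := exists_up (w := (w 6)⁻¹ • w)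
      (by simp [zTr] at ht ⊢; linear_combination (w 6)⁻¹ * ht)
      (by simp [zNm] at hn ⊢; linear_combination (w 6)⁻¹ * (w 6)⁻¹ * hn)
      (by simp [h6])
    obtain ⟨z, hz⟩ : ∃ z : F, (z ^ 2) ^ 2 * w 6 = 1 := by
      have hs : Function.Surjective fun x : F => x ^ 2 :=
        Finite.surjective_of_injective fun x y e => CharTwo.sq_injective e
      obtain ⟨y, hy⟩ := hs (w 6)⁻¹
      obtain ⟨z, rfl⟩ := hs y
      simp only at hy
      exact ⟨z, by rw [hy, inv_mul_cancel₀ h6]⟩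
    have hz0 : z ≠ 0 := fun e => by simp [e] at hz
    have hd : (z • (1 : Matrix (Fin 2) (Fin 2) F)).det = z ^ 2 := by simp [det_smul]
    have hd0 : (z • (1 : Matrix (Fin 2) (Fin 2) F)).det ≠ 0 := by rw [hd]; exact pow_ne_zero 2 hz0
    refine ⟨iota _ hd0 * u * k, Or.inl ?_⟩
    have e1 : act (iota _ hd0)⁻¹ (eTop : V8) = z ^ 2 • eTop := act_inv_of_eq (by
      rw [act_iota, hd]; funext i; fin_cases i <;> simp [eTop, hz0])
    rw [show iota _ hd0 * u * k * g * (iota _ hd0 * u * k)⁻¹ =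
        iota _ hd0 * (u * h * u⁻¹) * (iota _ hd0)⁻¹ by rw [hh]; group,
      act_mul, act_mul, e1, act_smul, act_conj_rad_eTop hu, ← hw,
      show act u w = w 6 • eBot by rw [← hue, act_smul, smul_smul, mul_inv_cancel₀ h6, one_smul],
      smul_smul, act_smul, act_iota, hd]
    funext i
    fin_cases i <;> simp [eBot]
    linear_combination hz
  have h07 : w 7 = w 0 := by
    simp [zTr] at ht
    linear_combination ht - w 0 * h2
  by_cases ha : w 1 ≠ 0 ∨ w 2 ≠ 0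
  · obtain ⟨Y, hd, hY1, hY2⟩ : ∃ Y : Matrix (Fin 2) (Fin 2) F, Y.det = 1 ∧
        Y 0 0 * w 1 + Y 0 1 * w 2 = 1 ∧ Y 1 0 * w 1 + Y 1 1 * w 2 = 0 := by
      by_cases h1 : w 1 = 0
      · have h' := ha.resolve_left (fun e => e h1)
        exact ⟨!![0, (w 2)⁻¹; -w 2, 0], by simp [det_fin_two, h'], by simp [h1, h'], by simp [h1]⟩
      · exact ⟨!![(w 1)⁻¹, 0; -w 2, w 1], by simp [det_fin_two, h1], by simp [h1], by simp; ring⟩
    have hd0 : Y.det ≠ 0 := hd ▸ one_ne_zero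
    obtain ⟨w1, hw1⟩ : ∃ w1, w1 = act (iota Y hd0) w := ⟨_, rfl⟩
    have x0 : w1 0 = w 0 := by rw [hw1, act_iota]; simp
    have x1 : w1 1 = 1 := by rw [hw1, act_iota]; simpa using hY1
    have x2 : w1 2 = 0 := by rw [hw1, act_iota]; simpa using hY2
    have x6 : w1 6 = 0 := by rw [hw1, act_iota]; simp [h6]
    obtain ⟨w2, hw2⟩ : ∃ w2, w2 = act (gB ![-w1 0, 0, 0]) w1 := ⟨_, rfl⟩
    have y0 : w2 0 = 0 := by rw [hw2, act_gB]; simp [moveB, x1]
    have y1 : w2 1 = 1 := by rw [hw2, act_gB]; simp [moveB, x1]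
    have y2 : w2 2 = 0 := by rw [hw2, act_gB]; simp [moveB, x2, x6]
    have y6 : w2 6 = 0 := by rw [hw2, act_gB]; simp [moveB, x6]
    have y7 : w2 7 = 0 := by
      have e : zTr w2 = 0 := by rw [hw2, act_tr, hw1, act_tr, ht]
      simpa [zTr, y0] using e
    have y4 : w2 4 = 0 := by
      have e : zNm w2 = 0 := by rw [hw2, act_nm, hw1, act_nm, hn]
      simpa [zNm, y0, y1, y2, y6, y7] using e
    refine ⟨gS (lowSL (-w2 3) 0) * gA ![0, 0, w2 5] * gB ![-w1 0, 0, 0] * iota Y hd0 * k,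
      Or.inr (Or.inl (step _ _ ?_ ?_))⟩
    · simp only [_root_.mul_inv_rev, act_mul, act_rad_eTop (inv_mem (gS_low_mem _ _)),
        act_rad_eTop (inv_mem (gA_rad_mem _)), act_rad_eTop (inv_mem (gB_rad_mem _ _)),
        iota_fix hd0 hd]
    · rw [← hw, act_mul, act_mul, act_mul, ← hw1, ← hw2, act_gS, act_gA]
      funext i
      fin_cases i <;> simp [moveA, moveS, lowSL, y0, y1, y2, y4, y6, y7]
  push Not at ha
  have h0 : w 0 = 0 := by
    have e : w 0 * w 0 = 0 := by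
      simp [zNm, ha.1, ha.2, h6, h07] at hn
      simp [hn]
    exact mul_self_eq_zero.1 e
  have hb : w 4 ≠ 0 ∨ w 5 ≠ 0 := by
    by_contra hb
    push Not at hb
    refine hk (w 3) ?_
    rw [← hw]
    funext i
    fin_cases i <;> simp [eTop, h0, h07, ha.1, ha.2, h6, hb.1, hb.2]
  obtain ⟨Y, hd, hY1, hY2⟩ : ∃ Y : Matrix (Fin 2) (Fin 2) F, Y.det = 1 ∧
      Y 1 1 * w 4 - Y 1 0 * w 5 = 1 ∧ Y 0 0 * w 5 - Y 0 1 * w 4 = 0 := by
    by_cases h4 : w 4 = 0
    · have h' := hb.resolve_left (fun e => e h4)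
      exact ⟨!![0, w 5; -(w 5)⁻¹, 0], by simp [det_fin_two, h'], by simp [h4, h'], by simp [h4]⟩
    · exact ⟨!![w 4, w 5; 0, (w 4)⁻¹], by simp [det_fin_two, h4], by simp [h4], by simp; ring⟩
  have hd0 : Y.det ≠ 0 := hd ▸ one_ne_zero
  refine ⟨gB ![0, -w 3, 0] * iota Y hd0 * k, Or.inr (Or.inr (step _ _ ?_ ?_))⟩
  · simp only [_root_.mul_inv_rev, act_mul, act_rad_eTop (inv_mem (gB_rad_mem _ _)), iota_fix hd0 hd]
  · rw [← hw, act_mul, act_gB, act_iota, hd]
    funext i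
    fin_cases i <;> simp [moveB, h0, h07, ha.1, ha.2, h6, hY1, hY2]

theorem support_of_zero {h : G2G F} {t : V8} (he : act h eTop = t) {j : Fin 8}
    (h1 : zornMul (eTop : V8) (Pi.single j 1) = 0) (h2 : zornMul (Pi.single j 1 : V8) eTop = 0) :
    zornMul t (act h (Pi.single j 1)) = 0 ∧ zornMul (act h (Pi.single j 1)) t = 0 := by
  rw [← he, ← act_zorn, ← act_zorn, h1, h2, act_zero]
  exact ⟨rfl, rfl⟩

theorem eTop_zorn_b (j : Fin 8) (hj : j = 4 ∨ j = 5) :
    zornMul (eTop : V8) (Pi.single j 1) = 0 ∧ zornMul (Pi.single j 1 : V8) eTop = 0 := by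
  rcases hj with rfl | rfl <;> constructor <;> funext i <;> fin_cases i <;>
    simp [zornMul, dot3, cross3, eTop]

/-- Normal form `a₁`. -/
theorem nice_of_a (h2 : (2 : F) = 0) {h : G2G F} (he : act h eTop = Pi.single 1 1) :
    ∃ k : G2G F, Nice (k * h * k⁻¹) := by
  haveI : CharP F 2 := CharTwo.of_one_ne_zero_of_two_eq_zero one_ne_zero h2
  have sup : ∀ j : Fin 8, (j = 4 ∨ j = 5) → ∃ p q r : F,
      act h (Pi.single j 1) = ![0, p, 0, 0, 0, q, r, 0] := fun j hj => by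
    obtain ⟨s1, s2⟩ := support_of_zero he (eTop_zorn_b j hj).1 (eTop_zorn_b j hj).2
    refine ⟨act h (Pi.single j 1) 1, act h (Pi.single j 1) 5, act h (Pi.single j 1) 6, ?_⟩
    generalize act h (Pi.single j 1) = x at s1 s2
    have a0 := congrFun s2 1
    have a4 := congrFun s1 0
    have a7 := congrFun s1 1
    have a2 := congrFun s1 6
    have a3 := congrFun s1 5
    simp [zornMul, dot3, cross3] at a0 a4 a7 a2 a3
    funext i
    fin_cases i <;> simp [a0, a4, a7, a2, a3]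
  obtain ⟨p4, q4, r4, c4⟩ := sup 4 (Or.inl rfl)
  obtain ⟨p5, q5, r5, c5⟩ := sup 5 (Or.inr rfl)
  have key : ∀ s : F, mat (gS (lowSL 1 s) * h * (gS (lowSL 1 s))⁻¹) 3 3 = 1 ∧
      mat (gS (lowSL 1 s) * h * (gS (lowSL 1 s))⁻¹) 4 3 = 0 ∧
      mat (gS (lowSL 1 s) * h * (gS (lowSL 1 s))⁻¹) 5 3 = 0 ∧
      mat (gS (lowSL 1 s) * h * (gS (lowSL 1 s))⁻¹) 4 4 = r4 ∧
      mat (gS (lowSL 1 s) * h * (gS (lowSL 1 s))⁻¹) 5 5 = q5 + s * r5 ∧
      mat (gS (lowSL 1 s) * h * (gS (lowSL 1 s))⁻¹) 4 5 = r5 ∧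
      mat (gS (lowSL 1 s) * h * (gS (lowSL 1 s))⁻¹) 5 4 = q4 + s * r4 := by
    intro s
    have k3 : act (gS (lowSL 1 s)) (eTop : V8) = Pi.single 3 1 := by
      rw [act_rad_eTop (gS_low_mem _ _), eTop_single]
    have kb : ∀ j : Fin 8, (j = 4 ∨ j = 5) →
        act (gS (lowSL 1 s)) (Pi.single j 1 : V8) = Pi.single j 1 := fun j hj => by
      rw [act_gS]
      rcases hj with rfl | rfl <;> funext i <;> fin_cases i <;> simp [moveS, lowSL]
    simp only [mat_conj _ _ _ _ k3, mat_conj _ _ _ _ (kb 4 (Or.inl rfl)),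
      mat_conj _ _ _ _ (kb 5 (Or.inr rfl)), he, c4, c5, act_gS]
    simp [moveS, lowSL, CharTwo.neg_eq, CharTwo.sub_eq_add]
  have mk : ∀ s : F, (r4 + (q5 + s * r5) ≠ 0 ∨ (r5 = 0 ∧ q4 + s * r4 = 0 ∧ r4 = q5 + s * r5)) →
      ∃ k : G2G F, Nice (k * h * k⁻¹) := fun s hs => by
    obtain ⟨e33, e43, e53, e44, e55, e45, e54⟩ := key s
    exact ⟨gS (lowSL 1 s), e33, by simpa [e43, e53, e44, e55, e45, e54] using hs⟩
  by_cases h5 : r5 = 0
  swap
  · by_cases ht : r4 + (q5 + 0 * r5) ≠ 0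
    · exact mk 0 (Or.inl ht)
    · push Not at ht
      exact mk 1 (Or.inl fun e => h5 (by linear_combination e - ht))
  by_cases ht : r4 + (q5 + 0 * r5) ≠ 0
  · exact mk 0 (Or.inl ht)
  push Not at ht
  have hq : r4 = q5 := by linear_combination ht - q5 * h2
  by_cases hr : r4 = 0
  · exfalso
    obtain ⟨e33, e43, e53, e44, e55, e45, e54⟩ := key 0
    obtain ⟨v, u, Y, hY, hv, hu, hgd, hdet, -⟩ :=
      exists_dec (gS (lowSL 1 0) * h * (gS (lowSL 1 0))⁻¹) (by rw [e33]; exact one_ne_zero)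
    rw [e33, inv_one] at hdet
    obtain ⟨⟨b11, b00⟩, b10, b01⟩ := block_of_dec hgd hv hu hdet
    rw [e43, e44, hr] at b11
    rw [e43, e45, h5] at b10
    simp at b11 b10
    rw [det_fin_two, b11, b10] at hdet
    simp at hdet
  · exact mk (q4 / r4) (Or.inr ⟨h5, by rw [div_mul_cancel₀ _ hr]; exact CharTwo.add_self_eq_zero q4,
      by rw [h5, hq]; ring⟩)

/-- Normal form `b₁`. -/
theorem nice_of_b (h2 : (2 : F) = 0) {h : G2G F} (he : act h eTop = Pi.single 4 1) :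
    ∃ k : G2G F, Nice (k * h * k⁻¹) := by
  haveI : CharP F 2 := CharTwo.of_one_ne_zero_of_two_eq_zero one_ne_zero h2
  have sup : ∀ j : Fin 8, (j = 4 ∨ j = 5) → ∃ x y z : F,
      act h (Pi.single j 1) = ![0, 0, x, y, z, 0, 0, 0] := fun j hj => by
    obtain ⟨s1, s2⟩ := support_of_zero he (eTop_zorn_b j hj).1 (eTop_zorn_b j hj).2
    refine ⟨act h (Pi.single j 1) 2, act h (Pi.single j 1) 3, act h (Pi.single j 1) 4, ?_⟩
    generalize act h (Pi.single j 1) = x at s1 s2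
    have a0 := congrFun s1 4
    have a7 := congrFun s2 4
    have a5 := congrFun s1 3
    have a6 := congrFun s1 2
    have a1 := congrFun s1 7
    simp [zornMul, dot3, cross3] at a0 a7 a5 a6 a1
    funext i
    fin_cases i <;> simp [a0, a7, a5, a6, a1]
  obtain ⟨x4, y4, z4, c4⟩ := sup 4 (Or.inl rfl)
  obtain ⟨x5, y5, z5, c5⟩ := sup 5 (Or.inr rfl)
  have key : ∀ s : F, let m := mat (gS (lowSL 0 s) * gB ![0, 1, 0] * h *
        (gS (lowSL 0 s) * gB ![0, 1, 0])⁻¹)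
      m 3 3 = 1 ∧ m 4 3 = 1 ∧ m 5 3 = 0 ∧
      m 4 4 - m 4 3 * m 3 4 = y4 + s * x4 ∧ m 5 5 - m 5 3 * m 3 5 = x5 ∧
      m 4 5 - m 4 3 * m 3 5 = y5 + s * x5 ∧ m 5 4 - m 5 3 * m 3 4 = x4 := by
    intro s m
    have k3 : act (gS (lowSL 0 s) * gB ![0, 1, 0]) (eTop : V8) = Pi.single 3 1 := by
      rw [act_rad_eTop (mul_mem (gS_low_mem _ _) (gB_rad_mem _ _)), eTop_single]
    have k4 : act (gS (lowSL 0 s) * gB ![0, 1, 0]) (Pi.single 4 1 + eTop : V8) = Pi.single 4 1 := by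
      rw [act_mul, act_gB, act_gS]
      funext i
      fin_cases i <;> simp [moveS, moveB, lowSL, eTop, CharTwo.add_self_eq_zero, vecHead, vecTail, Pi.single_apply]
    have k5 : act (gS (lowSL 0 s) * gB ![0, 1, 0]) (Pi.single 5 1 : V8) = Pi.single 5 1 := by
      rw [act_mul, act_gB, act_gS]
      funext i
      fin_cases i <;> simp [moveS, moveB, lowSL]
    simp only [m, mat_conj _ _ _ _ k3, mat_conj _ _ _ _ k4, mat_conj _ _ _ _ k5, act_add, he, c4,
      c5, act_mul, act_gS, act_gB]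
    simp [moveS, moveB, lowSL, CharTwo.neg_eq, CharTwo.sub_eq_add, CharTwo.add_self_eq_zero]
    refine ⟨?_, ?_⟩ <;> grind
  have mk : ∀ s : F, (y4 + s * x4 + x5 ≠ 0 ∨
      (y5 + s * x5 = 0 ∧ x4 = 0 ∧ y4 + s * x4 = x5)) → ∃ k : G2G F, Nice (k * h * k⁻¹) := fun s hs => by
    obtain ⟨e33, -, -, e44, e55, e45, e54⟩ := key s
    refine ⟨gS (lowSL 0 s) * gB ![0, 1, 0], e33, ?_⟩
    rw [e44, e55, e45, e54]
    exact hs
  by_cases ht : y4 + 0 * x4 + x5 ≠ 0
  · exact mk 0 (Or.inl ht)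
  push Not at ht
  by_cases hx : x4 = 0
  swap
  · exact mk 1 (Or.inl fun e => hx (by linear_combination e - ht))
  have hy : y4 = x5 := by linear_combination ht - x5 * h2
  by_cases hr : x5 = 0
  · exfalso
    obtain ⟨e33, -, -, e44, e55, e45, e54⟩ := key 0
    obtain ⟨v, u, Y, hY, hv, hu, hgd, hdet, -⟩ :=
      exists_dec (gS (lowSL 0 0) * gB ![0, 1, 0] * h * (gS (lowSL 0 0) * gB ![0, 1, 0])⁻¹)
        (by rw [e33]; exact one_ne_zero)
    rw [e33, inv_one] at hdet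
    obtain ⟨⟨b11, b00⟩, b10, b01⟩ := block_of_dec hgd hv hu hdet
    rw [e55, hr] at b00
    rw [e54, hx] at b01
    simp at b01
    rw [det_fin_two, b00, b01] at hdet
    simp at hdet
  · exact mk (y5 / x5) (Or.inr ⟨by rw [div_mul_cancel₀ _ hr]; exact CharTwo.add_self_eq_zero y5, hx,
      by rw [hx, hy]; ring⟩)

/-- Normal form `b₃`. -/
theorem nice_of_f (h2 : (2 : F) = 0) {w : F} (hw0 : w ≠ 0) (hw1 : w ≠ 1) {h : G2G F}
    (he : act h eTop = eBot) : ∃ k : G2G F, Nice (k * h * k⁻¹) := by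
  haveI : CharP F 2 := CharTwo.of_one_ne_zero_of_two_eq_zero one_ne_zero h2
  have sup : ∀ j : Fin 8, (j = 4 ∨ j = 5) → ∃ p q r : F,
      act h (Pi.single j 1) = ![0, p, q, 0, 0, 0, r, 0] := fun j hj => by
    obtain ⟨s1, s2⟩ := support_of_zero he (eTop_zorn_b j hj).1 (eTop_zorn_b j hj).2
    refine ⟨act h (Pi.single j 1) 1, act h (Pi.single j 1) 2, act h (Pi.single j 1) 6, ?_⟩
    generalize act h (Pi.single j 1) = x at s1 s2
    have a0 := congrFun s1 6
    have a7 := congrFun s2 6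
    have a5 := congrFun s1 1
    have a4 := congrFun s1 2
    have a3 := congrFun s1 7
    simp [zornMul, dot3, cross3, eBot] at a0 a7 a5 a4 a3
    funext i
    fin_cases i <;> simp [a0, a7, a5, a4, a3]
  obtain ⟨p4, q4, r4, c4⟩ := sup 4 (Or.inl rfl)
  obtain ⟨p5, q5, r5, c5⟩ := sup 5 (Or.inr rfl)
  have key : ∀ s : F, let m := mat (gS (lowSL 1 s) * gB ![0, 1, 0] * h *
        (gS (lowSL 1 s) * gB ![0, 1, 0])⁻¹)
      m 3 3 = 1 ∧
      (m 4 4 - m 4 3 * m 3 4) + (m 5 5 - m 5 3 * m 3 5) = p4 + q5 + s * (q4 + p5) + s * s * q5 := by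
    intro s m
    have k3 : act (gS (lowSL 1 s) * gB ![0, 1, 0]) (eTop : V8) = Pi.single 3 1 := by
      rw [act_rad_eTop (mul_mem (gS_low_mem _ _) (gB_rad_mem _ _)), eTop_single]
    have k4 : act (gS (lowSL 1 s) * gB ![0, 1, 0]) (Pi.single 4 1 + eTop : V8) = Pi.single 4 1 := by
      rw [act_mul, act_gB, act_gS]
      funext i
      fin_cases i <;> simp [moveS, moveB, lowSL, eTop, CharTwo.add_self_eq_zero, vecHead, vecTail, Pi.single_apply]
    have k5 : act (gS (lowSL 1 s) * gB ![0, 1, 0]) (Pi.single 5 1 : V8) = Pi.single 5 1 := by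
      rw [act_mul, act_gB, act_gS]
      funext i
      fin_cases i <;> simp [moveS, moveB, lowSL]
    simp only [m, mat_conj _ _ _ _ k3, mat_conj _ _ _ _ k4, mat_conj _ _ _ _ k5, act_add, he, c4,
      c5, act_mul, act_gS, act_gB]
    simp [moveS, moveB, lowSL, eBot, CharTwo.neg_eq, CharTwo.sub_eq_add, CharTwo.add_self_eq_zero]
    grind
  have mk : ∀ s : F, p4 + q5 + s * (q4 + p5) + s * s * q5 ≠ 0 →
      ∃ k : G2G F, Nice (k * h * k⁻¹) := fun s hs => by
    obtain ⟨e33, etr⟩ := key s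
    exact ⟨gS (lowSL 1 s) * gB ![0, 1, 0], e33, Or.inl (by rw [etr]; exact hs)⟩
  by_cases t0 : p4 + q5 + 0 * (q4 + p5) + 0 * 0 * q5 ≠ 0
  · exact mk 0 t0
  by_cases t1 : p4 + q5 + 1 * (q4 + p5) + 1 * 1 * q5 ≠ 0
  · exact mk 1 t1
  by_cases tw : p4 + q5 + w * (q4 + p5) + w * w * q5 ≠ 0
  · exact mk w tw
  push Not at t0 t1 tw
  have hq5 : q5 = 0 := (mul_eq_zero.1 (show (w * w - w) * q5 = 0 by
    linear_combination tw - w * t1 - (1 - w) * t0)).resolve_left
      (by rw [← mul_sub_one]; exact mul_ne_zero hw0 (sub_ne_zero.2 hw1))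
  have hp4 : p4 = 0 := by linear_combination t0 - hq5
  have hqp : q4 = p5 := by linear_combination t1 - t0 - hq5 - p5 * h2
  refine ⟨gA ![0, 0, 1], ?_⟩
  have k3 : act (gA ![0, 0, 1]) (eTop : V8) = Pi.single 3 1 := by
    rw [act_rad_eTop (gA_rad_mem _), eTop_single]
  have k4 : act (gA ![0, 0, 1]) (Pi.single 4 1 : V8) = Pi.single 4 1 := by
    rw [act_gA]; funext i; fin_cases i <;> simp [moveA]
  have k5 : act (gA ![0, 0, 1]) (Pi.single 5 1 : V8) = Pi.single 5 1 := by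
    rw [act_gA]; funext i; fin_cases i <;> simp [moveA]
  simp only [Nice, mat_conj _ _ _ _ k3, mat_conj _ _ _ _ k4, mat_conj _ _ _ _ k5, he, c4, c5, act_gA]
  simp [moveA, eBot, hq5, hp4, hqp, CharTwo.neg_eq, CharTwo.sub_eq_add]

/-- In characteristic two every nontrivial element has a nice conjugate. -/
theorem exists_nice (h2 : (2 : F) = 0) {w : F} (hw0 : w ≠ 0) (hw1 : w ≠ 1) {g : G2G F} (hg : g ≠ 1) :
    ∃ k : G2G F, Nice (k * g * k⁻¹) := by
  obtain ⟨k, hk⟩ := exists_normal h2 hg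
  obtain ⟨l, hl⟩ : ∃ l : G2G F, Nice (l * (k * g * k⁻¹) * l⁻¹) := by
    rcases hk with h | h | h
    · exact nice_of_f h2 hw0 hw1 h
    · exact nice_of_a h2 h
    · exact nice_of_b h2 h
  exact ⟨l * k, by rwa [show l * k * g * (l * k)⁻¹ = l * (k * g * k⁻¹) * l⁻¹ by group]⟩

end CfsgLib.KnownB.G2Square
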