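import Cfsg.Agent.Lib.KnownB.G2Square.Moves
import Cfsg.Agent.Lib.KnownB.PSpFourSquare.Criteria

/-!
# The Levi factor `GL₂` and the class of `x`

`iota Y = moveS diag(Y, (det Y)⁻¹)`.  For `Y` with the determinant and trace of the companion matrix
no nontrivial element of either radical commutes with `iota Y`, hence the class of `iota Y` absorbs
both radicals.
-/

set_option autoImplicit false
set_option maxHeartbeats 1000000

namespace CfsgLib.KnownB.G2Square

open Matrix Cfsg.Lie CfsgLib.NormalCover CfsgLib.KnownB.PSpFourSquare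

variable {F : Type*} [Field F]

local notation "V8" => Fin 8 → F

/-- `diag(Y, (det Y)⁻¹)`. -/
def liftSL (Y : Matrix (Fin 2) (Fin 2) F) (hY : Y.det ≠ 0) : Matrix.SpecialLinearGroup (Fin 3) F :=
  ⟨!![Y 0 0, Y 0 1, 0; Y 1 0, Y 1 1, 0; 0, 0, Y.det⁻¹], by
    have h : Y.det = Y 0 0 * Y 1 1 - Y 0 1 * Y 1 0 := det_fin_two Y
    rw [det_fin_three]
    simp
    linear_combination (-Y.det⁻¹) * h + mul_inv_cancel₀ hY⟩

/-- The Levi factor. -/
noncomputable def iota (Y : Matrix (Fin 2) (Fin 2) F) (hY : Y.det ≠ 0) : G2G F := gS (liftSL Y hY)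

theorem iota_congr {Y Z : Matrix (Fin 2) (Fin 2) F} (h : Y = Z) (hY : Y.det ≠ 0) :
    iota Y hY = iota Z (h ▸ hY) := by subst h; rfl

theorem iota_mul (Y Z : Matrix (Fin 2) (Fin 2) F) (hY : Y.det ≠ 0) (hZ : Z.det ≠ 0) :
    iota Y hY * iota Z hZ = iota (Y * Z) (by rw [det_mul]; exact mul_ne_zero hY hZ) := by
  rw [iota, iota, iota, ← map_mul]
  refine congrArg gS (Subtype.ext ?_)
  show (liftSL Y hY).1 * (liftSL Z hZ).1 = _
  ext i j
  fin_cases i <;> fin_cases j <;>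
    simp [liftSL, Matrix.mul_apply, Fin.sum_univ_three, Fin.sum_univ_two, det_mul, mul_comm]

theorem iota_one : iota (1 : Matrix (Fin 2) (Fin 2) F) (by simp) = 1 := by
  rw [iota, ← map_one gS]
  refine congrArg gS (Subtype.ext ?_)
  ext i j
  fin_cases i <;> fin_cases j <;> simp [liftSL]

theorem iota_inv (Y : Matrix (Fin 2) (Fin 2) F) (hY : Y.det ≠ 0) :
    (iota Y hY)⁻¹ = iota Y⁻¹ (by simpa [det_nonsing_inv] using hY) := by
  refine inv_eq_of_mul_eq_one_right ?_
  rw [iota_mul, iota_congr (Matrix.mul_nonsing_inv Y (isUnit_iff_ne_zero.2 hY)), iota_one]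

theorem iota_conj {P Y A : Matrix (Fin 2) (Fin 2) F} (hP : P.det ≠ 0) (hY : Y.det ≠ 0)
    (hA : A.det ≠ 0) (h : Y * P = P * A) :
    iota Y hY = iota P hP * iota A hA * (iota P hP)⁻¹ := by
  rw [eq_mul_inv_iff_mul_eq, iota_mul, iota_mul]
  exact iota_congr h _

theorem act_iota (Y : Matrix (Fin 2) (Fin 2) F) (hY : Y.det ≠ 0) (x : V8) :
    act (iota Y hY) x = ![x 0, Y 0 0 * x 1 + Y 0 1 * x 2, Y 1 0 * x 1 + Y 1 1 * x 2,
      Y.det⁻¹ * x 3, Y.det⁻¹ * (Y 1 1 * x 4 - Y 1 0 * x 5), Y.det⁻¹ * (Y 0 0 * x 5 - Y 0 1 * x 4),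
      Y.det * x 6, x 7] := by
  rw [iota, act_gS]
  funext i
  have h : Y.det = Y 0 0 * Y 1 1 - Y 0 1 * Y 1 0 := det_fin_two Y
  fin_cases i <;> simp [moveS, liftSL] <;> first
    | ring1
    | exact Or.inl h.symm

theorem iota_graded (Y : Matrix (Fin 2) (Fin 2) F) (hY : Y.det ≠ 0) : Graded gr (iota Y hY) := by
  intro i j h
  rw [← act_single, act_iota]
  fin_cases i <;> fin_cases j <;> simp_all [gr]

theorem iota_conj_rad [Finite F] (Y : Matrix (Fin 2) (Fin 2) F) (hY : Y.det ≠ 0) {u : G2G F}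
    (hu : u ∈ rad F) : iota Y hY * u * (iota Y hY)⁻¹ ∈ rad F :=
  Graded.conj_rise (iota_graded Y hY) (by rw [iota_inv]; exact iota_graded _ _) hu

theorem iota_conj_radOp [Finite F] (Y : Matrix (Fin 2) (Fin 2) F) (hY : Y.det ≠ 0) {u : G2G F}
    (hu : u ∈ radOp F) : iota Y hY * u * (iota Y hY)⁻¹ ∈ radOp F := by
  have hg : ∀ (Z : Matrix (Fin 2) (Fin 2) F) (hZ : Z.det ≠ 0),
      Graded (fun i => -gr i) (iota Z hZ) := fun Z hZ i j h => iota_graded Z hZ i j fun e => h (by simp [e])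
  exact Graded.conj_rise (hg Y hY) (by rw [iota_inv]; exact hg _ _) hu

theorem theta_iota (Y : Matrix (Fin 2) (Fin 2) F) (hY : Y.det ≠ 0) (h : Y⁻¹ᵀ.det ≠ 0) :
    theta * iota Y hY * theta = iota Y⁻¹ᵀ h := by
  refine ext_act fun x => ?_
  rw [act_mul, act_mul, act_theta, act_theta, act_iota, act_iota]
  funext i
  have hd : Y⁻¹ᵀ.det = Y.det⁻¹ := by rw [det_transpose, det_nonsing_inv, Ring.inverse_eq_inv']
  rw [hd, Matrix.inv_def, Ring.inverse_eq_inv', adjugate_fin_two]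
  have hY0 : Y.det ≠ 0 := hY
  fin_cases i <;> simp [moveT] <;> field_simp <;> ring

/-- The sign of `moveT` at a coordinate. -/
def tSign : Fin 8 → F := ![1, -1, -1, -1, -1, -1, -1, 1]

/-- The permutation of `moveT`. -/
def tPerm : Fin 8 → Fin 8 := ![7, 4, 5, 6, 1, 2, 3, 0]

theorem theta_conj_radOp [Finite F] {v : G2G F} (hv : v ∈ radOp F) : theta * v * theta ∈ rad F := by
  intro i j hij
  have hT : ∀ (x : V8) (k : Fin 8), moveT x k = tSign k * x (tPerm k) := fun x k => by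
    fin_cases k <;> simp [moveT, tSign, tPerm]
  have hperm : ∀ k l : Fin 8, tPerm k = l ↔ k = tPerm l := by decide
  have hgr : ∀ k : Fin 8, gr (tPerm k) = -gr k := by decide
  have hsg : ∀ k : Fin 8, (tSign k : F) * tSign (tPerm k) = 1 := fun k => by
    fin_cases k <;> simp [tSign, tPerm]
  have hs : moveT (Pi.single j 1 : V8) = (tSign (tPerm j) : F) • (Pi.single (tPerm j) 1 : V8) := by
    funext k
    rw [hT]
    by_cases hk : k = tPerm j
    · subst hk
      rw [(hperm _ _).2 rfl]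
      simp
    · rw [Pi.single_eq_of_ne (fun e => hk ((hperm _ _).1 e))]
      simp [hk]
  rw [← act_single, act_mul, act_mul, act_theta, act_theta, hs, act_smul, hT, Pi.smul_apply,
    act_single, hv (tPerm i) (tPerm j) (by show -gr (tPerm i) ≤ -gr (tPerm j); rw [hgr, hgr]; omega)]
  by_cases e : i = j
  · subst e; simp [hsg]
  · have hinj : ∀ k l : Fin 8, tPerm k = tPerm l → k = l := by decide
    rw [if_neg (fun h => e (hinj _ _ h)), if_neg e]
    simp

/-! ### Admissible parameters -/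

/-- The parameters are suited to `G₂`. -/
structure Fit (K : Params F) : Prop where
  one : K.δ ≠ 1
  low : K.τ ≠ K.δ + 1
  top : K.δ * K.τ ≠ K.δ ^ 3 + 1

variable {K : Params F}

/-- Only the identity of the radical commutes with `iota Y`. -/
theorem cent_rad_like [Finite F] (hK : Fit K) {Y : Matrix (Fin 2) (Fin 2) F} (h : K.Like Y)
    {u : G2G F} (hu : u ∈ rad F) (hc : iota Y h.det_ne * u = u * iota Y h.det_ne) : u = 1 := by
  have hd := h.1
  have ht := h.2
  rw [det_fin_two] at hd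
  rw [trace_fin_two] at ht
  obtain ⟨z, hz⟩ : ∃ z, z = act u eBot := ⟨_, rfl⟩
  have heig : act (iota Y h.det_ne) z = K.δ • z := by
    rw [hz, ← act_mul, hc, act_mul, ← act_smul]
    refine congrArg (act u) ?_
    rw [act_iota, h.1]
    funext i; fin_cases i <;> simp [eBot]
  rw [act_iota, h.1] at heig
  have e1 := congrFun heig 1; have e2 := congrFun heig 2
  have e4 := congrFun heig 4; have e5 := congrFun heig 5
  have e0 := congrFun heig 0; have e7 := congrFun heig 7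
  simp at e0 e1 e2 e4 e5 e7
  have hδ := K.hδ
  have d1 : K.δ * (K.δ - K.τ + 1) ≠ 0 :=
    mul_ne_zero hδ fun e => hK.low (by linear_combination -e)
  have z1 : z 1 = 0 := (mul_eq_zero.1 (show K.δ * (K.δ - K.τ + 1) * z 1 = 0 by
    linear_combination (Y 1 1 - K.δ) * e1 - Y 0 1 * e2 - z 1 * hd + z 1 * K.δ * ht)).resolve_left d1
  have z2 : z 2 = 0 := (mul_eq_zero.1 (show K.δ * (K.δ - K.τ + 1) * z 2 = 0 by
    linear_combination (Y 0 0 - K.δ) * e2 - Y 1 0 * e1 - z 2 * hd + z 2 * K.δ * ht)).resolve_left d1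
  have z0 : z 0 = 0 := (mul_eq_zero.1 (show (K.δ - 1) * z 0 = 0 by
    linear_combination -e0)).resolve_left (sub_ne_zero.2 hK.one)
  have z7 : z 7 = 0 := (mul_eq_zero.1 (show (K.δ - 1) * z 7 = 0 by
    linear_combination -e7)).resolve_left (sub_ne_zero.2 hK.one)
  have d2 : K.δ * (K.δ ^ 3 - K.δ * K.τ + 1) ≠ 0 :=
    mul_ne_zero hδ fun e => hK.top (by linear_combination -e)
  field_simp at e4 e5
  have z4 : z 4 = 0 := (mul_eq_zero.1 (show K.δ * (K.δ ^ 3 - K.δ * K.τ + 1) * z 4 = 0 by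
    linear_combination (Y 0 0 - K.δ ^ 2) * e4 + Y 1 0 * e5 - z 4 * hd + z 4 * K.δ ^ 2 * ht)).resolve_left d2
  have z5 : z 5 = 0 := (mul_eq_zero.1 (show K.δ * (K.δ ^ 3 - K.δ * K.τ + 1) * z 5 = 0 by
    linear_combination (Y 1 1 - K.δ ^ 2) * e5 + Y 0 1 * e4 - z 5 * hd + z 5 * K.δ ^ 2 * ht)).resolve_left d2
  have z6 : z 6 = 1 := by
    rw [hz, eBot_single, act_single, hu 6 6 le_rfl, if_pos rfl]
  have z3 : z 3 = 0 := by
    have := act_nm u eBot
    rw [← hz] at this
    simp [zNm, eBot, z0, z1, z2, z4, z5, z6, z7] at this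
    exact this
  have hf : act u eBot = eBot := by
    rw [← hz]
    funext i
    fin_cases i <;> simp [eBot, z0, z1, z2, z3, z4, z5, z6, z7]
  have hee : zornMul (eTop : V8) eBot = eZero := by
    funext i; fin_cases i <;> simp [zornMul, dot3, cross3, eTop, eBot, eZero]
  have h0 : act u eZero = eZero := by rw [← hee, act_zorn, act_rad_eTop hu, hf]
  obtain ⟨-, hS⟩ := stab_eZero u.2 h0
  have hb : ∀ i j : Fin 3, blockA (u : GL (Fin 8) F) i j =
      mat u (![1, 2, 3] i) (![1, 2, 3] j) := fun i j => rfl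
  have b00 : blockA (u : GL (Fin 8) F) 0 0 = 1 := by rw [hb]; exact hu 1 1 le_rfl
  have b01 : blockA (u : GL (Fin 8) F) 0 1 = 0 := by rw [hb]; exact hu 1 2 (by decide)
  have b02 : blockA (u : GL (Fin 8) F) 0 2 = 0 := by rw [hb]; exact hu 1 3 (by decide)
  have b10 : blockA (u : GL (Fin 8) F) 1 0 = 0 := by rw [hb]; exact hu 2 1 (by decide)
  have b11 : blockA (u : GL (Fin 8) F) 1 1 = 1 := by rw [hb]; exact hu 2 2 le_rfl
  have b12 : blockA (u : GL (Fin 8) F) 1 2 = 0 := by rw [hb]; exact hu 2 3 (by decide)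
  have b22 : blockA (u : GL (Fin 8) F) 2 2 = 1 := by rw [hb]; exact hu 3 3 le_rfl
  have hf' : moveS (blockA (u : GL (Fin 8) F)) eBot = eBot := (hS eBot).symm.trans hf
  have r4 := congrFun hf' 4; have r5 := congrFun hf' 5
  simp [moveS, eBot, b00, b01, b10, b11] at r4 r5
  refine ext_act fun x => ?_
  rw [act_one]
  refine (hS x).trans ?_
  funext i
  fin_cases i <;> simp [moveS, b00, b01, b02, b10, b11, b12, b22, r4, r5]

theorem cent_rad [Finite F] (hK : Fit K) {Y : Matrix (Fin 2) (Fin 2) F} (h : K.InC Y)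
    {u : G2G F} (hu : u ∈ rad F) (hc : iota Y h.1 * u = u * iota Y h.1) : u = 1 := by
  rcases h.2 with h' | h'
  · exact cent_rad_like hK h' hu hc
  · refine cent_rad_like hK h' hu ?_
    rw [← iota_inv Y h.1, inv_mul_eq_iff_eq_mul, ← mul_assoc, hc, mul_inv_cancel_right]

theorem InC_invT {Y : Matrix (Fin 2) (Fin 2) F} (h : K.InC Y) : K.InC Y⁻¹ᵀ := by
  refine Params.InC.transpose ⟨by simpa [det_nonsing_inv] using h.1, ?_⟩
  rw [Matrix.nonsing_inv_nonsing_inv _ (isUnit_iff_ne_zero.2 h.1)]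
  exact h.2.symm

theorem cent_radOp [Finite F] (hK : Fit K) {Y : Matrix (Fin 2) (Fin 2) F} (h : K.InC Y)
    {v : G2G F} (hv : v ∈ radOp F) (hc : iota Y h.1 * v = v * iota Y h.1) : v = 1 := by
  have hh := InC_invT h
  have e : theta * v * theta = 1 := by
    refine cent_rad hK hh (theta_conj_radOp hv) ?_
    rw [← theta_iota Y h.1]
    calc theta * iota Y h.1 * theta * (theta * v * theta)
        = theta * (iota Y h.1 * ((theta * theta) * v)) * theta := by group
      _ = theta * (v * ((theta * theta) * iota Y h.1)) * theta := by rw [theta_mul_self, one_mul, one_mul, hc]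
      _ = _ := by group
  calc v = (theta * theta) * v * (theta * theta) := by rw [theta_mul_self, one_mul, mul_one]
    _ = theta * (theta * v * theta) * theta := by group
    _ = 1 := by rw [e, mul_one, theta_mul_self]

/-- The element `x`. -/
noncomputable def xEl (K : Params F) : G2G F := iota (comp K.δ K.τ) K.det_ne

theorem exists_class {Y : Matrix (Fin 2) (Fin 2) F} (h : K.InC Y) :
    ∃ w : G2G F, iota Y h.1 = w * xEl K * w⁻¹ := by
  rcases h.2 with h' | h'
  · obtain ⟨P, hP, e⟩ := h'.exists_conj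
    exact ⟨iota P hP, iota_conj hP _ K.det_ne e⟩
  · obtain ⟨P, hP, e⟩ := h'.transpose.exists_conj
    refine ⟨theta * iota P hP, ?_⟩
    have hY : (Y⁻¹ᵀ)⁻¹ᵀ = Y := by
      rw [transpose_nonsing_inv, transpose_transpose,
        Matrix.nonsing_inv_nonsing_inv _ (isUnit_iff_ne_zero.2 h.1)]
    have hd : ((Y⁻¹ᵀ)⁻¹ᵀ).det ≠ 0 := by rw [hY]; exact h.1
    rw [iota_congr hY.symm h.1, ← theta_iota _ h'.transpose.det_ne hd,
      iota_conj hP h'.transpose.det_ne K.det_ne e, xEl, _root_.mul_inv_rev, theta_inv]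
    group

/-- A map `w ↦ [y, w]` on a finite normalised subgroup without fixed points is onto. -/
theorem exists_conj_mul {G : Type*} [Group G] (S : Subgroup G) [Finite S] (y : G)
    (hn : ∀ w ∈ S, y * w * y⁻¹ ∈ S) (hc : ∀ w ∈ S, y * w = w * y → w = 1) {s : G} (hs : s ∈ S) :
    ∃ w ∈ S, s * y = w * y * w⁻¹ := by
  let f : S → S := fun w => ⟨w.1 * (y * w.1⁻¹ * y⁻¹), mul_mem w.2 (hn _ (inv_mem w.2))⟩
  have hf : Function.Injective f := fun a b e => by
    have e' : a.1 * (y * a.1⁻¹ * y⁻¹) = b.1 * (y * b.1⁻¹ * y⁻¹) := congrArg Subtype.val e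
    have : y * (a.1⁻¹ * b.1) = (a.1⁻¹ * b.1) * y := by
      calc y * (a.1⁻¹ * b.1) = a.1⁻¹ * (a.1 * (y * a.1⁻¹ * y⁻¹)) * y * b.1 := by group
        _ = _ := by rw [e']; group
    exact Subtype.ext (inv_mul_eq_one.1 (hc _ (mul_mem (inv_mem a.2) b.2) this))
  obtain ⟨w, hw⟩ := Finite.surjective_of_injective hf ⟨s, hs⟩
  refine ⟨w.1, w.2, ?_⟩
  have : w.1 * (y * w.1⁻¹ * y⁻¹) = s := congrArg Subtype.val hw
  rw [← this]
  group

/-- `radOp · iota Y` stays in the class. -/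
theorem class_left [Finite F] (hK : Fit K) {Y : Matrix (Fin 2) (Fin 2) F} (h : K.InC Y)
    {v : G2G F} (hv : v ∈ radOp F) : ∃ w : G2G F, v * iota Y h.1 = w * xEl K * w⁻¹ := by
  obtain ⟨c, hc⟩ := exists_class h
  obtain ⟨w, -, hw⟩ := exists_conj_mul (radOp F) (iota Y h.1)
    (fun w hw => iota_conj_radOp _ _ hw) (fun w hw e => cent_radOp hK h hw e) hv
  exact ⟨w * c, by rw [hw, hc]; group⟩

/-- `iota Y · rad` stays in the class. -/
theorem class_right [Finite F] (hK : Fit K) {Y : Matrix (Fin 2) (Fin 2) F} (h : K.InC Y)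
    {u : G2G F} (hu : u ∈ rad F) : ∃ w : G2G F, iota Y h.1 * u = w * xEl K * w⁻¹ := by
  obtain ⟨c, hc⟩ := exists_class h
  obtain ⟨w, -, hw⟩ := exists_conj_mul (rad F) (iota Y h.1)
    (fun w hw => iota_conj_rad _ _ hw) (fun w hw e => cent_rad hK h hw e)
    (iota_conj_rad Y h.1 hu)
  exact ⟨w * c, by rw [show iota Y h.1 * u = iota Y h.1 * u * (iota Y h.1)⁻¹ * iota Y h.1 by group, hw, hc]; group⟩

/-- A product `v · iota X · u` with good `X` is a product of two conjugates of `x`. -/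
theorem cover_of_dec [Finite F] (hK : Fit K) {X : Matrix (Fin 2) (Fin 2) F} (hX : X.det ≠ 0)
    (hG : K.Good X) {v u : G2G F} (hv : v ∈ radOp F) (hu : u ∈ rad F) :
    Cover (xEl K) (v * iota X hX * u) := by
  obtain ⟨Y, Z, hY, hZ, e⟩ := hG
  obtain ⟨a, ha⟩ := class_left hK hY hv
  obtain ⟨b, hb⟩ := class_right hK hZ hu
  refine ⟨a, b, ?_⟩
  rw [← ha, ← hb, iota_congr e hX, ← iota_mul Y Z hY.1 hZ.1]
  group

end CfsgLib.KnownB.G2Square
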