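import Cfsg.Agent.Lib.NormalCover.G2Stab
import Cfsg.Agent.Lib.Classical.SLGen

/-!
# Automorphisms of Zorn's algebra as group elements

`gA u`, `gB v`, `gS A`, the exchange `theta` of the two halves, the grading of the maximal parabolic
fixing the line of `a₃`, and the subgroups of strictly raising elements.
-/

set_option autoImplicit false
set_option maxHeartbeats 1000000

namespace CfsgLib.KnownB.G2Square

open Matrix Cfsg.Lie CfsgLib.NormalCover

variable {F : Type*} [Field F]

local notation "V8" => Fin 8 → F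

abbrev G2G (F : Type*) [Field F] : Type _ := ↥(Cfsg.Lie.G2 F)

/-- The matrix of an element. -/
abbrev mat (g : G2G F) : Matrix (Fin 8) (Fin 8) F := ((g : GL (Fin 8) F) : Matrix (Fin 8) (Fin 8) F)

/-- The action on Zorn's algebra. -/
def act (g : G2G F) (x : V8) : V8 := mat g *ᵥ x

theorem act_mul (g h : G2G F) (x : V8) : act (g * h) x = act g (act h x) :=
  (mulVec_mulVec x (mat g) (mat h)).symm

theorem act_one (x : V8) : act (1 : G2G F) x = x := one_mulVec x

theorem act_inv_act (g : G2G F) (x : V8) : act g⁻¹ (act g x) = x := by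
  rw [← act_mul, inv_mul_cancel, act_one]

theorem act_smul (g : G2G F) (c : F) (x : V8) : act g (c • x) = c • act g x := mulVec_smul _ c x

theorem act_add (g : G2G F) (x y : V8) : act g (x + y) = act g x + act g y := mulVec_add _ x y

theorem act_zero (g : G2G F) : act g (0 : V8) = 0 := mulVec_zero _

theorem act_injective (g : G2G F) : Function.Injective (act g) :=
  Function.LeftInverse.injective (g := act g⁻¹) (act_inv_act g)

theorem act_single (g : G2G F) (i j : Fin 8) : act g (Pi.single j 1) i = mat g i j := by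
  simp [act]

theorem act_zorn (g : G2G F) (x y : V8) : act g (zornMul x y) = zornMul (act g x) (act g y) := g.2 x y

theorem act_tr (g : G2G F) (x : V8) : zTr (act g x) = zTr x := (g2_tr_nm g.2 x).1

theorem act_nm (g : G2G F) (x : V8) : zNm (act g x) = zNm x := (g2_tr_nm g.2 x).2

theorem act_pol (g : G2G F) (x y : V8) : zPol (act g x) (act g y) = zPol x y := g2_pol g.2 x y

theorem ext_act {g h : G2G F} (e : ∀ x, act g x = act h x) : g = h :=
  Subtype.ext (Units.ext (Matrix.ext_iff_mulVec.2 e))

theorem mat_mul (g h : G2G F) : mat (g * h) = mat g * mat h := rfl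

/-! ### The three families -/

/-- `moveA u` as a group element. -/
noncomputable def gA (u : Fin 3 → F) : G2G F :=
  ⟨_, (exists_g2 _ (moveA_injective u) (moveA_mul u)).choose_spec.1⟩

theorem act_gA (u : Fin 3 → F) (x : V8) : act (gA u) x = moveA u x :=
  (exists_g2 _ (moveA_injective u) (moveA_mul u)).choose_spec.2 x

/-- `moveB v` as a group element. -/
noncomputable def gB (v : Fin 3 → F) : G2G F :=
  ⟨_, (exists_g2 _ (moveB_injective v) (moveB_mul v)).choose_spec.1⟩

theorem act_gB (v : Fin 3 → F) (x : V8) : act (gB v) x = moveB v x :=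
  (exists_g2 _ (moveB_injective v) (moveB_mul v)).choose_spec.2 x

/-- `moveS A` as a group element. -/
noncomputable def gS0 (A : Matrix.SpecialLinearGroup (Fin 3) F) : G2G F :=
  ⟨_, (exists_g2 _ (moveS_injective A.2) (moveS_mul A.2)).choose_spec.1⟩

theorem act_gS0 (A : Matrix.SpecialLinearGroup (Fin 3) F) (x : V8) :
    act (gS0 A) x = moveS (A : Matrix (Fin 3) (Fin 3) F) x :=
  (exists_g2 _ (moveS_injective A.2) (moveS_mul A.2)).choose_spec.2 x

/-- The embedding of `SL₃`. -/
noncomputable def gS : Matrix.SpecialLinearGroup (Fin 3) F →* G2G F where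
  toFun := gS0
  map_one' := ext_act fun x => by
    rw [act_gS0, act_one]; exact moveS_one x
  map_mul' A B := ext_act fun x => by
    rw [act_mul, act_gS0, act_gS0, act_gS0, moveS_comp]
    rfl

theorem act_gS (A : Matrix.SpecialLinearGroup (Fin 3) F) (x : V8) :
    act (gS A) x = moveS (A : Matrix (Fin 3) (Fin 3) F) x := act_gS0 A x

/-- `(α, a, b, β) ↦ (β, -b, -a, α)`. -/
def moveT : V8 →ₗ[F] V8 where
  toFun x := ![x 7, -x 4, -x 5, -x 6, -x 1, -x 2, -x 3, x 0]
  map_add' x y := by funext i; fin_cases i <;> simp <;> ring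
  map_smul' c x := by funext i; fin_cases i <;> simp

theorem moveT_mul (x y : V8) : moveT (zornMul x y) = zornMul (moveT x) (moveT y) := by
  funext i
  fin_cases i <;> simp [moveT, zornMul, dot3, cross3] <;> ring

theorem moveT_moveT (x : V8) : moveT (moveT x) = x := by
  funext i
  fin_cases i <;> simp [moveT]

/-- The exchange of the two halves. -/
noncomputable def theta : G2G F :=
  ⟨_, (exists_g2 _ (Function.LeftInverse.injective moveT_moveT) moveT_mul).choose_spec.1⟩

theorem act_theta (x : V8) : act (theta : G2G F) x = moveT x :=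
  (exists_g2 _ (Function.LeftInverse.injective moveT_moveT) moveT_mul).choose_spec.2 x

theorem theta_mul_self : (theta : G2G F) * theta = 1 :=
  ext_act fun x => by rw [act_mul, act_theta, act_theta, moveT_moveT, act_one]

theorem theta_inv : (theta : G2G F)⁻¹ = theta := inv_eq_of_mul_eq_one_right theta_mul_self

/-! ### Moves generate a subgroup -/

/-- The subgroup generated by the twelve root subgroups. -/
noncomputable def moved (F : Type*) [Field F] : Subgroup (G2G F) :=
  Subgroup.closure {g | (∃ (k : Fin 3) (t : F), g = gA (Pi.single k t) ∨ g = gB (Pi.single k t)) ∨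
    ∃ (i j : Fin 3) (hij : i ≠ j) (t : F), g = gS (Matrix.SpecialLinearGroup.transvection hij t)}

theorem gA_single_mem (k : Fin 3) (t : F) : gA (Pi.single k t) ∈ moved F :=
  Subgroup.subset_closure (Or.inl ⟨k, t, Or.inl rfl⟩)

theorem gB_single_mem (k : Fin 3) (t : F) : gB (Pi.single k t) ∈ moved F :=
  Subgroup.subset_closure (Or.inl ⟨k, t, Or.inr rfl⟩)

theorem gS_mem (A : Matrix.SpecialLinearGroup (Fin 3) F) : gS A ∈ moved F := by
  have h : (moved F).comap gS = ⊤ := CfsgLib.Classical.sl_transvection_induction _ fun i j hij t =>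
    Subgroup.mem_comap.2 (Subgroup.subset_closure (Or.inr ⟨i, j, hij, t, rfl⟩))
  exact Subgroup.mem_comap.1 (h ▸ Subgroup.mem_top A)

/-- `gA ![t,0,0]` etc. -/
theorem gA_mem_zero (t : F) : gA ![t, 0, 0] ∈ moved F := by
  rw [show (![t, 0, 0] : Fin 3 → F) = Pi.single 0 t by funext i; fin_cases i <;> simp]
  exact gA_single_mem _ _

theorem gA_mem_two (t : F) : gA ![0, 0, t] ∈ moved F := by
  rw [show (![0, 0, t] : Fin 3 → F) = Pi.single 2 t by funext i; fin_cases i <;> simp]
  exact gA_single_mem _ _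

theorem gB_mem_zero (t : F) : gB ![t, 0, 0] ∈ moved F := by
  rw [show (![t, 0, 0] : Fin 3 → F) = Pi.single 0 t by funext i; fin_cases i <;> simp]
  exact gB_single_mem _ _

theorem gB_mem_one (t : F) : gB ![0, t, 0] ∈ moved F := by
  rw [show (![0, t, 0] : Fin 3 → F) = Pi.single 1 t by funext i; fin_cases i <;> simp]
  exact gB_single_mem _ _

theorem gB_mem_two (t : F) : gB ![0, 0, t] ∈ moved F := by
  rw [show (![0, 0, t] : Fin 3 → F) = Pi.single 2 t by funext i; fin_cases i <;> simp]
  exact gB_single_mem _ _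

/-- A shear of `SL₃` sending the first axis to `(u₁, u₂, 0)`. -/
def planeSL (u v : F) (hu : u ≠ 0) : Matrix.SpecialLinearGroup (Fin 3) F :=
  ⟨!![u, 0, 0; v, u⁻¹, 0; 0, 0, 1], by simp [det_fin_three, hu]⟩

/-- A shear of `SL₃` moving the second dual axis to `(u, v, 0)`. -/
def planeTop (u v : F) (hv : v ≠ 0) : Matrix.SpecialLinearGroup (Fin 3) F :=
  ⟨!![v, 0, 0; -u, v⁻¹, 0; 0, 0, 1], by simp [det_fin_three, hv]⟩

theorem gA_mem_plane (u v : F) : gA ![u, v, 0] ∈ moved F := by
  by_cases hu : u = 0
  · subst hu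
    rw [show (![0, v, 0] : Fin 3 → F) = Pi.single 1 v by funext i; fin_cases i <;> simp]
    exact gA_single_mem _ _
  have e : gA ![u, v, 0] = gS (planeSL u v hu) * gA ![1, 0, 0] * (gS (planeSL u v hu))⁻¹ := by
    rw [eq_mul_inv_iff_mul_eq]
    refine ext_act fun x => ?_
    rw [act_mul, act_mul, act_gA, act_gA, act_gS, act_gS]
    funext i
    fin_cases i <;> simp [moveA, moveS, planeSL] <;> field_simp <;> ring
  rw [e]
  exact mul_mem (mul_mem (gS_mem _) (gA_mem_zero 1)) (inv_mem (gS_mem _))

theorem gB_mem_plane (u v : F) : gB ![u, v, 0] ∈ moved F := by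
  by_cases hu : v = 0
  · subst hu
    exact gB_mem_zero u
  have e2 : gB ![u, v, 0] = gS (planeTop u v hu) * gB ![0, 1, 0] * (gS (planeTop u v hu))⁻¹ := by
    rw [eq_mul_inv_iff_mul_eq]
    refine ext_act fun x => ?_
    rw [act_mul, act_mul, act_gB, act_gB, act_gS, act_gS]
    funext i
    fin_cases i <;> simp [moveB, moveS, planeTop] <;> field_simp <;> ring
  rw [e2]
  exact mul_mem (mul_mem (gS_mem _) (gB_mem_one 1)) (inv_mem (gS_mem _))

/-! ### The grading -/

/-- The grading of the parabolic fixing the line of `a₃`. -/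
def gr : Fin 8 → ℤ := ![0, -1, -1, 2, 1, 1, -2, 0]

/-- Strictly raising elements for a grading. -/
def Rises (d : Fin 8 → ℤ) (g : G2G F) : Prop :=
  ∀ i j, d i ≤ d j → mat g i j = if i = j then 1 else 0

/-- Elements preserving a grading. -/
def Graded (d : Fin 8 → ℤ) (g : G2G F) : Prop := ∀ i j, d i ≠ d j → mat g i j = 0

theorem Rises.mul {d : Fin 8 → ℤ} {g h : G2G F} (hg : Rises d g) (hh : Rises d h) :
    Rises d (g * h) := by
  intro i j hij
  rw [mat_mul, Matrix.mul_apply, Finset.sum_eq_single j]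
  · rw [hh j j le_rfl, if_pos rfl, mul_one, hg i j hij]
  · intro k _ hk
    by_cases hkj : d k ≤ d j
    · rw [hh k j hkj, if_neg hk, mul_zero]
    · rw [hg i k (by omega), if_neg (by rintro rfl; omega), zero_mul]
  · simp

theorem Rises.one (d : Fin 8 → ℤ) : Rises d (1 : G2G F) := fun i j _ => Matrix.one_apply

theorem Rises.pow {d : Fin 8 → ℤ} {g : G2G F} (hg : Rises d g) : ∀ n : ℕ, Rises d (g ^ n)
  | 0 => by rw [pow_zero]; exact Rises.one d
  | n + 1 => by rw [pow_succ]; exact (hg.pow n).mul hg

/-- The subgroup of strictly raising elements. -/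
def riseSub [Finite F] (d : Fin 8 → ℤ) : Subgroup (G2G F) where
  carrier := {g | Rises d g}
  mul_mem' := Rises.mul
  one_mem' := Rises.one d
  inv_mem' {g} hg := by
    have hp := orderOf_pos g
    have : g⁻¹ = g ^ (orderOf g - 1) := inv_eq_of_mul_eq_one_right (by
      rw [← pow_succ', Nat.sub_add_cancel hp, pow_orderOf_eq_one])
    show Rises d g⁻¹
    rw [this]
    exact Rises.pow hg _

/-- The unipotent radical. -/
abbrev rad (F : Type*) [Field F] [Finite F] : Subgroup (G2G F) := riseSub gr

/-- The opposite unipotent radical. -/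
abbrev radOp (F : Type*) [Field F] [Finite F] : Subgroup (G2G F) := riseSub (fun i => -gr i)

theorem Graded.conj_rise [Finite F] {d : Fin 8 → ℤ} {l u : G2G F} (hl : Graded d l) (hl' : Graded d l⁻¹)
    (hu : u ∈ riseSub d) : l * u * l⁻¹ ∈ riseSub d := by
  intro i j hij
  rw [mat_mul, mat_mul, Matrix.mul_apply]
  have e : ∀ k, mat l⁻¹ k j ≠ 0 → (mat l * mat u) i k = mat l i k := by
    intro k hk
    have hkj : d k = d j := by by_contra h; exact hk (hl' k j h)
    rw [Matrix.mul_apply, Finset.sum_eq_single k]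
    · rw [hu k k le_rfl, if_pos rfl, mul_one]
    · intro m _ hm
      by_cases him : d i = d m
      · rw [hu m k (by omega), if_neg hm, mul_zero]
      · rw [hl i m him, zero_mul]
    · simp
  calc ∑ k, (mat l * mat u) i k * mat l⁻¹ k j = ∑ k, mat l i k * mat l⁻¹ k j := by
        refine Finset.sum_congr rfl fun k _ => ?_
        by_cases hk : mat l⁻¹ k j = 0
        · rw [hk, mul_zero, mul_zero]
        · rw [e k hk]
    _ = _ := by rw [← Matrix.mul_apply, ← mat_mul, mul_inv_cancel]; exact Matrix.one_apply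

theorem Rises.of_act {d : Fin 8 → ℤ} {g : G2G F} (f : V8 →ₗ[F] V8) (hf : ∀ x, act g x = f x)
    (h : ∀ i j : Fin 8, d i ≤ d j → f (Pi.single j 1) i = if i = j then 1 else 0) : Rises d g :=
  fun i j hij => by rw [← act_single, hf]; exact h i j hij

/-- The vector `a₃`. -/
def eTop : V8 := ![0, 0, 0, 1, 0, 0, 0, 0]

/-- The vector `b₃`. -/
def eBot : V8 := ![0, 0, 0, 0, 0, 0, 1, 0]

theorem eTop_single : (eTop : V8) = Pi.single 3 1 := by
  funext i; fin_cases i <;> simp [eTop]

theorem eBot_single : (eBot : V8) = Pi.single 6 1 := by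
  funext i; fin_cases i <;> simp [eBot]

/-- `1 + r E₃₁ + s E₃₂`. -/
def lowSL (r s : F) : Matrix.SpecialLinearGroup (Fin 3) F :=
  ⟨!![1, 0, 0; 0, 1, 0; r, s, 1], by simp [det_fin_three]⟩

/-- `1 + r E₁₃ + s E₂₃`. -/
def upSL (r s : F) : Matrix.SpecialLinearGroup (Fin 3) F :=
  ⟨!![1, 0, r; 0, 1, s; 0, 0, 1], by simp [det_fin_three]⟩

variable [Finite F]

theorem gS_low_mem (r s : F) : gS (lowSL r s) ∈ rad F :=
  Rises.of_act _ (act_gS _) fun i j h => by
    fin_cases i <;> fin_cases j <;> simp_all [gr, moveS, lowSL]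

theorem gS_up_mem (r s : F) : gS (upSL r s) ∈ radOp F :=
  Rises.of_act _ (act_gS _) fun i j h => by
    fin_cases i <;> fin_cases j <;> simp_all [gr, moveS, upSL]

theorem gA_rad_mem (t : F) : gA ![0, 0, t] ∈ rad F :=
  Rises.of_act _ (act_gA _) fun i j h => by
    fin_cases i <;> fin_cases j <;> simp_all [gr, moveA]

theorem gB_rad_mem (u v : F) : gB ![u, v, 0] ∈ rad F :=
  Rises.of_act _ (act_gB _) fun i j h => by
    fin_cases i <;> fin_cases j <;> simp_all [gr, moveB]

theorem gB_radOp_mem (t : F) : gB ![0, 0, t] ∈ radOp F :=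
  Rises.of_act _ (act_gB _) fun i j h => by
    fin_cases i <;> fin_cases j <;> simp_all [gr, moveB]

theorem gA_radOp_mem (u v : F) : gA ![u, v, 0] ∈ radOp F :=
  Rises.of_act _ (act_gA _) fun i j h => by
    fin_cases i <;> fin_cases j <;> simp_all [gr, moveA]

theorem act_rad_eTop {u : G2G F} (hu : u ∈ rad F) : act u eTop = eTop := by
  funext i
  rw [eTop_single, act_single, hu i 3 (by fin_cases i <;> decide), Pi.single_apply]

theorem act_radOp_coord {v : G2G F} (hv : v ∈ radOp F) (x : V8) : act v x 3 = x 3 := by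
  show (mat v *ᵥ x) 3 = _
  rw [Matrix.mulVec, dotProduct, Finset.sum_eq_single 3]
  · rw [hv 3 3 le_rfl, if_pos rfl, one_mul]
  · intro j _ hj
    rw [hv 3 j (by fin_cases j <;> decide), if_neg (Ne.symm hj), zero_mul]
  · simp

end CfsgLib.KnownB.G2Square
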